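import Mathlib

/-!
A binomial coefficient has a prime factor at most the larger lower index, with one exception.
-/

set_option autoImplicit false

namespace Cfsg.Agent.Lib.HallSym

theorem dvd_of_parts {y z : ℕ} (hy : y ≠ 0) (h : ∀ p a : ℕ, p.Prime → 1 ≤ a → p ^ a ∣ y → p ^ a ∣ z) : y ∣ z := by
  rcases Nat.eq_zero_or_pos z with rfl | hz
  · exact dvd_zero y
  rw [← Nat.factorization_le_iff_dvd hy hz.ne']
  intro p
  by_cases hp : p.Prime
  · rcases Nat.eq_zero_or_pos (y.factorization p) with h0 | h0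
    · omega
    · exact (hp.pow_dvd_iff_le_factorization hz.ne').1 (h p _ hp h0 (Nat.ordProj_dvd y p))
  · rw [Nat.factorization_eq_zero_of_not_prime y hp]; exact Nat.zero_le _

/-- The coefficient has no prime factor up to `m`. -/
def Clean (k m : ℕ) : Prop := ∀ p : ℕ, p.Prime → p ≤ m → ¬ p ∣ (m + k).choose k

variable {k m : ℕ}

theorem no_carry (h : Clean k m) {p a : ℕ} (hp : p.Prime) (hpm : p ≤ m) (ha : 1 ≤ a) :
    k % p ^ a + m % p ^ a < p ^ a := by
  by_contra hc
  have hC : (m + k).choose k ≠ 0 := (Nat.choose_pos (Nat.le_add_left k m)).ne'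
  refine h p hp hpm ((hp.dvd_iff_one_le_factorization hC).2 ?_)
  rw [Nat.factorization_choose hp (Nat.le_add_left k m) (show Nat.log p (m + k) < max (Nat.log p (m + k)) a + 1 by omega)]
  · refine Finset.card_pos.2 ⟨a, ?_⟩
    rw [Finset.mem_filter, Finset.mem_Ico, Nat.add_sub_cancel]
    exact ⟨⟨ha, by omega⟩, not_lt.1 hc⟩

theorem prime_le_of_composite {p x m : ℕ} (hp : p.Prime) (hx : ¬ x.Prime) (hpx : p ∣ x) (hx0 : x ≠ 0) (hxm : x ≤ 2 * m) : p ≤ m := by
  obtain ⟨c, rfl⟩ := hpx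
  have hc : 2 ≤ c := by
    by_contra hc
    interval_cases c
    · simp at hx0
    · rw [mul_one] at hx; exact hx hp
  have := Nat.mul_le_mul_left p hc
  omega

theorem sum_mod (h : Clean k m) {p a : ℕ} (hp : p.Prime) (hpm : p ≤ m) (ha : 1 ≤ a) :
    k % p ^ a + m % p ^ a = (m + k) % p ^ a := by
  rw [Nat.add_mod, Nat.mod_eq_of_lt (show m % p ^ a + k % p ^ a < p ^ a by have := no_carry h hp hpm ha; omega), add_comm]

theorem mod_of_dvd_succ {x y : ℕ} (hy : 0 < y) (h : y ∣ x + 1) : x % y = y - 1 := by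
  obtain ⟨c, hc⟩ := h
  rcases c with _ | c
  · simp at hc
  · rw [Nat.mul_succ] at hc
    rw [show x = y - 1 + y * c by omega, Nat.add_mul_mod_self_left, Nat.mod_eq_of_lt (by omega)]

theorem succ_prime (h : Clean k m) (hk : 2 ≤ k) (hkm : k ≤ m) : (m + 1).Prime := by
  by_contra hx
  have hd : m + 1 ∣ k := dvd_of_parts (by omega) fun p a hp ha hd => by
    have hpx : p ∣ m + 1 := (dvd_pow_self p (by omega)).trans hd
    have hc := no_carry h hp (prime_le_of_composite hp hx hpx (by omega) (by omega)) ha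
    have hpos : 0 < p ^ a := pow_pos hp.pos a
    rw [mod_of_dvd_succ hpos hd] at hc
    exact Nat.dvd_of_mod_eq_zero (by generalize k % p ^ a = A, m % p ^ a = B at *; omega)
  have := Nat.le_of_dvd (by omega) hd
  omega

theorem total_prime (h : Clean k m) (hk : 2 ≤ k) (hkm : k ≤ m) : (m + k).Prime := by
  by_contra hx
  have hd : m + k ∣ k := dvd_of_parts (by omega) fun p a hp ha hd => by
    have hpx : p ∣ m + k := (dvd_pow_self p (by omega)).trans hd
    have hc := sum_mod h hp (prime_le_of_composite hp hx hpx (by omega) (by omega)) ha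
    rw [Nat.mod_eq_zero_of_dvd hd] at hc
    exact Nat.dvd_of_mod_eq_zero (by generalize k % p ^ a = A, m % p ^ a = B at *; omega)
  have := Nat.le_of_dvd (by omega) hd
  omega

theorem succ_dvd (h : Clean k m) (hkm : k < m) : k + 1 ∣ m := dvd_of_parts (by omega) fun p a hp ha hd => by
  have hpm : p ≤ m := (Nat.le_of_dvd (by omega) ((dvd_pow_self p (show a ≠ 0 by omega)).trans hd)).trans hkm
  have hc := no_carry h hp hpm ha
  rw [mod_of_dvd_succ (pow_pos hp.pos a) hd] at hc
  exact Nat.dvd_of_mod_eq_zero (by have := pow_pos hp.pos a; generalize k % p ^ a = A, m % p ^ a = B at *; omega)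

theorem pred_dvd (h : Clean k m) (hk : 2 ≤ k) (hkm : k ≤ m) (hn : Even (m + k - 1)) : m + k - 1 ∣ k * (k - 1) := by
  refine dvd_of_parts (by omega) fun p a hp ha hd => ?_
  have hnp : ¬ (m + k - 1).Prime := fun hq => by
    have := (hq.even_iff).1 hn
    omega
  have hpm := prime_le_of_composite hp hnp ((dvd_pow_self p (show a ≠ 0 by omega)).trans hd) (by omega) (show m + k - 1 ≤ 2 * m by omega)
  have hc := sum_mod h hp hpm ha
  have h1 : (m + k) % p ^ a = 1 := by
    obtain ⟨c, hc'⟩ := hd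
    rw [show m + k = 1 + p ^ a * c by omega, Nat.add_mul_mod_self_left, Nat.mod_eq_of_lt (Nat.one_lt_pow (by omega) hp.one_lt)]
  rcases Nat.eq_zero_or_pos (k % p ^ a) with h0 | h0
  · exact (Nat.dvd_of_mod_eq_zero h0).mul_right _
  · refine Dvd.dvd.mul_left ?_ _
    exact (Nat.modEq_iff_dvd' (by omega)).1 (show 1 % p ^ a = k % p ^ a by
      rw [Nat.mod_eq_of_lt (Nat.one_lt_pow (by omega) hp.one_lt)]; generalize k % p ^ a = A, m % p ^ a = B at *; omega)

/-- The case of nearly equal parts. -/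
theorem eq_three (h : Clean k (k + 1)) (hk : 2 ≤ k) : k = 3 := by
  obtain ⟨w, hw⟩ : ∃ w, w = Nat.log 2 (k + 1) := ⟨_, rfl⟩
  have hlo : 2 ^ w ≤ k + 1 := hw ▸ Nat.pow_log_le_self 2 (by omega)
  have hhi : k + 1 < 2 ^ (w + 1) := hw ▸ Nat.lt_pow_succ_log_self one_lt_two _
  have hm : k + 1 = 2 ^ w := by
    by_contra hne
    have hc := no_carry h Nat.prime_two (by omega) (show 1 ≤ w + 1 by omega)
    rw [Nat.mod_eq_of_lt (show k < 2 ^ (w + 1) by omega), Nat.mod_eq_of_lt hhi] at hc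
    rw [pow_succ] at hc
    omega
  have hP := succ_prime h hk (by omega)
  have hw2 : 2 ≤ w := by
    by_contra hlt
    interval_cases w <;> simp at hm <;> omega
  by_cases hw3 : w = 2
  · subst hw3; norm_num at hm; omega
  obtain ⟨v, rfl⟩ : ∃ v, w = 2 * v := by
    rcases Nat.even_or_odd w with ⟨v, hv⟩ | ⟨v, hv⟩
    · exact ⟨v, by omega⟩
    · exfalso
      have h3 : 3 ∣ k + 1 + 1 := by
        rw [hm, hv]
        have := Odd.nat_add_dvd_pow_add_pow 2 1 (n := 2 * v + 1) ⟨v, rfl⟩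
        simpa using this
      have h5 := (Nat.prime_dvd_prime_iff_eq Nat.prime_three hP).1 h3
      have : 2 ^ 2 ≤ 2 ^ w := Nat.pow_le_pow_right two_pos hw2
      omega
  obtain ⟨u, rfl⟩ : ∃ u, v = u + 2 := ⟨v - 2, by omega⟩
  obtain ⟨d, hd⟩ : ∃ d, d = 2 ^ (2 * (u + 2) - 1) + 1 := ⟨_, rfl⟩
  have hm2 : k + 1 + 2 = 2 * d := by
    rw [hm, hd, show 2 * (u + 2) = 2 * (u + 2) - 1 + 1 by omega, pow_succ, Nat.add_sub_cancel]
    ring
  have hd8 : 9 ≤ d := by
    rw [hd]
    have : 2 ^ 3 ≤ 2 ^ (2 * (u + 2) - 1) := Nat.pow_le_pow_right two_pos (by omega)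
    omega
  have h9 : ¬ 9 ∣ d := fun h9 => by
    have hc := no_carry h Nat.prime_three (by omega) (show 1 ≤ 2 by omega)
    norm_num at hc
    omega
  exfalso
  obtain ⟨p, hp, hpd, hp5⟩ : ∃ p, p.Prime ∧ p ∣ d ∧ 5 ≤ p := by
    by_contra hno
    push Not at hno
    have hodd : ¬ 2 ∣ d := by
      rw [hd, show 2 * (u + 2) - 1 = 2 * u + 2 + 1 by omega, pow_succ]
      omega
    have : d ∣ 3 := dvd_of_parts (by omega) fun p a hp ha hpa => by
      have hpd : p ∣ d := (dvd_pow_self p (show a ≠ 0 by omega)).trans hpa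
      have hp4 := hno p hp hpd
      have hp2 := hp.two_le
      interval_cases p
      · exact absurd hpd hodd
      · rcases Nat.lt_or_ge a 2 with ha2 | ha2
        · rw [show a = 1 by omega]; simp
        · exact absurd ((pow_dvd_pow 3 ha2).trans hpa) (by norm_num; exact h9)
      · exact absurd hp (by norm_num)
    have := Nat.le_of_dvd (by norm_num) this
    omega
  have hpm : p ≤ k + 1 := by
    have := Nat.le_of_dvd (by omega) hpd
    omega
  have hc := no_carry h hp hpm le_rfl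
  rw [pow_one] at hc
  obtain ⟨c, hc'⟩ := hpd
  rcases c with _ | c
  · omega
  have e : k + 3 = p * (2 * (c + 1)) := by rw [hc'] at hm2; linarith
  have e1 : k % p = p - 3 := by
    rw [show k = p - 3 + p * (2 * c + 1) by rw [show p * (2 * (c + 1)) = p * (2 * c + 1) + p by ring] at e; omega,
      Nat.add_mul_mod_self_left, Nat.mod_eq_of_lt (by omega)]
  have e2 : (k + 1) % p = p - 2 := by
    rw [show k + 1 = p - 2 + p * (2 * c + 1) by rw [show p * (2 * (c + 1)) = p * (2 * c + 1) + p by ring] at e; omega,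
      Nat.add_mul_mod_self_left, Nat.mod_eq_of_lt (by omega)]
  omega

theorem fact_sq (k : ℕ) : k.factorial * k.factorial * 4 ^ k ≤ ((k + 1) * (k + 1)) ^ k := by
  have h1 : k.factorial = ∏ i ∈ Finset.range k, (i + 1) := (Finset.prod_range_add_one_eq_factorial k).symm
  have h2 : k.factorial = ∏ i ∈ Finset.range k, (k - i) := by
    rw [h1, ← Finset.prod_range_reflect (fun i => i + 1) k]
    exact Finset.prod_congr rfl fun i hi => by have := Finset.mem_range.1 hi; omega
  have h4 : (4 : ℕ) ^ k = ∏ _i ∈ Finset.range k, 4 := by simp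
  conv_lhs =>
    arg 1; arg 1; rw [h1]
  conv_lhs =>
    arg 1; arg 2; rw [h2]
  rw [h4, ← Finset.prod_mul_distrib, ← Finset.prod_mul_distrib]
  calc _ ≤ ∏ _i ∈ Finset.range k, (k + 1) * (k + 1) := Finset.prod_le_prod' fun i hi => by
        have hi' := Finset.mem_range.1 hi
        obtain ⟨b, rfl⟩ : ∃ b, k = i + b := ⟨k - i, by omega⟩
        rw [Nat.add_sub_cancel_left]
        nlinarith [sq_nonneg ((i : ℤ) + 1 - b)]
    _ = _ := by simp

/-- A binomial coefficient has a small prime factor, with one exception. -/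
theorem binom_clean (h : Clean k m) (hk : 2 ≤ k) (hkm : k ≤ m) : k = 3 ∧ m = 4 := by
  have hM := succ_prime h hk hkm
  have hN := total_prime h hk hkm
  have hne : k ≠ m := fun e => by
    subst e
    have := (hN.even_iff).1 ⟨k, rfl⟩
    omega
  have hme : Even m := by
    rcases hM.eq_two_or_odd' with e | e
    · omega
    · rcases e with ⟨c, hc⟩
      exact ⟨c, by omega⟩
  have hko : Odd k := by
    rcases hN.eq_two_or_odd' with e | e
    · omega
    · exact (Nat.odd_add.1 (by rwa [add_comm] at e)).2 hme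
  obtain ⟨a, ha⟩ := succ_dvd h (by omega)
  rcases Nat.lt_or_ge a 2 with ha2 | ha2
  · have e : m = k + 1 := by interval_cases a <;> omega
    subst e
    have := eq_three h hk
    omega
  exfalso
  obtain ⟨c, hc⟩ := pred_dvd h hk hkm (by
    obtain ⟨s, hs⟩ := hme
    obtain ⟨t, ht⟩ := hko
    exact ⟨s + t, by omega⟩)
  have hD : ((a : ℤ) + 1) * (k + 1) - 2 = ((m + k - 1 : ℕ) : ℤ) := by
    rw [Nat.cast_sub (by omega), Nat.cast_add, ha]
    push_cast
    ring
  have hdvd : ((m + k - 1 : ℕ) : ℤ) ∣ 2 * a * (a - 1) := by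
    have h1 : ((a : ℤ) + 1) ^ 2 * (k * (k - 1)) =
        (((a : ℤ) + 1) * (k + 1) - 2) * (((a : ℤ) + 1) * (k + 1) - 2 + 1 - 3 * a) + 2 * a * (a - 1) := by ring
    have h2 : ((m + k - 1 : ℕ) : ℤ) ∣ (k : ℤ) * (k - 1) := ⟨c, by
      have e := congrArg (fun x : ℕ => (x : ℤ)) hc
      push_cast [Nat.cast_sub (show 1 ≤ k by omega)] at e
      exact e⟩
    rw [hD] at h1
    exact (dvd_add_right (Dvd.intro _ rfl)).1 (h1 ▸ h2.mul_left _)
  have hle := Int.le_of_dvd (by
    have : (2 : ℤ) ≤ a := by exact_mod_cast ha2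
    nlinarith) hdvd
  rw [← hD] at hle
  have hu : k + 1 < 2 * a := by
    have : (2 : ℤ) ≤ a := by exact_mod_cast ha2
    by_contra hlt
    have : (2 : ℤ) * a ≤ k + 1 := by exact_mod_cast not_lt.1 hlt
    nlinarith
  obtain ⟨t, rfl⟩ := hko
  obtain ⟨E, hE⟩ : ∃ E, E = ∏ i ∈ Finset.range t, (m + 2 + 2 * i) := ⟨_, rfl⟩
  have hEdvd : E ∣ (2 * t + 1).factorial := by
    have hfac : (m + 1).ascFactorial (2 * t + 1) = (2 * t + 1).factorial * (m + (2 * t + 1)).choose (2 * t + 1) := by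
      rw [Nat.ascFactorial_eq_factorial_mul_choose']
      congr 2
      omega
    have hEd : E ∣ (m + 1).ascFactorial (2 * t + 1) := by
      rw [hE, Nat.ascFactorial_eq_prod_range]
      have e : ∏ i ∈ Finset.range t, (m + 2 + 2 * i) = ∏ j ∈ (Finset.range t).image (fun i => 2 * i + 1), (m + 1 + j) := by
        rw [Finset.prod_image fun x _ y _ hxy => by simpa using hxy]
        exact Finset.prod_congr rfl fun i _ => by ring
      rw [e]
      exact Finset.prod_dvd_prod_of_subset _ _ _ fun j hj => by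
        obtain ⟨i, hi, rfl⟩ := Finset.mem_image.1 hj
        rw [Finset.mem_range] at hi ⊢
        omega
    rw [hfac] at hEd
    refine (Nat.Coprime.dvd_of_dvd_mul_right ?_ hEd)
    rw [hE]
    refine Nat.Coprime.prod_left fun i hi => Nat.coprime_of_dvd fun p hp hpx hpC => h p hp ?_ hpC
    rw [Finset.mem_range] at hi
    obtain ⟨s, hs⟩ := hme
    refine prime_le_of_composite hp ?_ hpx (by omega) (by omega)
    exact fun hq => by
      have := (hq.even_iff).1 ⟨s + 1 + i, by omega⟩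
      omega
  have hbig : m ^ t ≤ E := by
    rw [hE]
    calc m ^ t = ∏ _i ∈ Finset.range t, m := by simp
      _ ≤ _ := Finset.prod_le_prod' fun i _ => by omega
  have hfle := hbig.trans (Nat.le_of_dvd (Nat.factorial_pos _) hEdvd)
  obtain ⟨u, hu'⟩ : ∃ u, u = 2 * t + 2 := ⟨_, rfl⟩
  have hmu : u * u ≤ 2 * m := by
    rw [ha, hu']
    nlinarith
  have hstep : (u * u) ^ (2 * t) * 4 ^ (2 * t + 1) ≤ 2 ^ (2 * t) * (u * u) ^ (2 * t + 1) := by
    calc (u * u) ^ (2 * t) * 4 ^ (2 * t + 1) ≤ (2 * m) ^ (2 * t) * 4 ^ (2 * t + 1) :=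
          Nat.mul_le_mul_right _ (Nat.pow_le_pow_left hmu _)
      _ = 2 ^ (2 * t) * ((m ^ t * m ^ t) * 4 ^ (2 * t + 1)) := by rw [mul_pow, two_mul t, pow_add]; ring
      _ ≤ 2 ^ (2 * t) * ((2 * t + 1).factorial * (2 * t + 1).factorial * 4 ^ (2 * t + 1)) :=
          Nat.mul_le_mul_left _ (Nat.mul_le_mul_right _ (Nat.mul_le_mul hfle hfle))
      _ ≤ _ := Nat.mul_le_mul_left _ (by rw [hu']; exact fact_sq (2 * t + 1))
  have hcancel : 4 ^ (2 * t + 1) ≤ 2 ^ (2 * t) * (u * u) := by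
    rw [pow_succ (u * u), ← mul_assoc, mul_comm (2 ^ (2 * t)), mul_assoc] at hstep
    exact Nat.le_of_mul_le_mul_left hstep (pow_pos (by subst hu'; positivity) _)
  have h4 : 4 ^ (2 * t + 1) = 2 ^ (2 * t) * (4 * 2 ^ (2 * t)) := by
    rw [pow_succ, show (4 : ℕ) = 2 * 2 from rfl, mul_pow]; ring
  rw [h4] at hcancel
  have h5 := Nat.le_of_mul_le_mul_left hcancel (pow_pos two_pos _)
  have hgrow : ∀ s, 2 ≤ s → (2 * s + 2) * (2 * s + 2) < 4 * 2 ^ (2 * s) := fun s hs => by
    induction s, hs using Nat.le_induction with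
    | base => norm_num
    | succ s hs ih => rw [show 2 * (s + 1) = 2 * s + 2 by ring, pow_add]; nlinarith
  rcases Nat.lt_or_ge t 2 with ht | ht
  · obtain rfl : t = 1 := by omega
    obtain ⟨s, hs⟩ := hme
    have := hM.two_le
    subst hu'
    norm_num at hu hfle
    omega
  · have := hgrow t ht
    subst hu'
    omega

end Cfsg.Agent.Lib.HallSym
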