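import Mathlib
import Cfsg.Prelude.Def_OddOrderLocal
import Cfsg.Prelude.Def_HallClasses

/-!
General facts about Hall subgroups for a set of primes.
-/

set_option autoImplicit false

namespace Cfsg.Agent.Lib.HallSym

open scoped Pointwise

universe u

variable {G : Type u} [Group G]

theorem card_rel {H K : Subgroup G} (h : H ≤ K) : Nat.card H * H.relIndex K = Nat.card K := by
  rw [← Nat.card_congr (Subgroup.subgroupOfEquivOfLe h).toEquiv]
  exact Subgroup.card_mul_index _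

/-- A Hall subgroup meets a normal subgroup in a Hall subgroup. -/
theorem hall_inf [Finite G] {π : Set ℕ} {H X M T : Subgroup G} (hH : Cfsg.IsPiHallOf π H X) (hHM : H ≤ M) (hMX : M ≤ X)
    (hTM : T ≤ M) (hT : (T.subgroupOf M).Normal) : Cfsg.IsPiHallOf π (H ⊓ T) T := by
  refine ⟨inf_le_right, fun p hp hd => hH.2.1 p hp (hd.trans (Subgroup.card_dvd_of_le inf_le_left)),
    fun p hp hπ hd => hH.2.2 p hp hπ (hd.trans ?_)⟩
  obtain ⟨H', hH'⟩ : ∃ H', H' = H.subgroupOf M := ⟨_, rfl⟩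
  obtain ⟨T', hT'⟩ : ∃ T', T' = T.subgroupOf M := ⟨_, rfl⟩
  haveI : T'.Normal := hT' ▸ hT
  have h1 := card_rel (le_sup_left : H' ≤ H' ⊔ T')
  have h2 := card_rel (le_sup_right : T' ≤ H' ⊔ T')
  have h3 := card_rel (inf_le_right : H' ⊓ T' ≤ T')
  have h4 := card_rel (inf_le_left : H' ⊓ T' ≤ H')
  rw [Subgroup.relIndex_sup_right] at h2
  rw [Subgroup.inf_relIndex_left] at h4
  have he : (H' ⊓ T').relIndex T' = H'.relIndex (H' ⊔ T') := by
    have hpos : 0 < Nat.card (H' ⊓ T' : Subgroup M) := Nat.card_pos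
    have hTH : 0 < T'.relIndex H' := Nat.pos_of_ne_zero fun h0 => by
      rw [h0, mul_zero] at h4; exact (Nat.card_pos (α := H')).ne h4
    refine Nat.eq_of_mul_eq_mul_left (Nat.mul_pos hpos hTH) ?_
    calc Nat.card (H' ⊓ T' : Subgroup M) * T'.relIndex H' * (H' ⊓ T').relIndex T'
        = Nat.card (H' ⊔ T' : Subgroup M) := by rw [← h2, ← h3]; ring
      _ = _ := by rw [← h1, ← h4]
  have e : (H ⊓ T).relIndex T = (H' ⊓ T').relIndex T' := by
    rw [Subgroup.inf_relIndex_right, Subgroup.inf_relIndex_right, hH', hT', Subgroup.relIndex_subgroupOf hTM]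
  rw [e, he]
  refine (Subgroup.relIndex_dvd_index_of_le (le_sup_left : H' ≤ H' ⊔ T')).trans ?_
  rw [hH']
  exact Dvd.intro _ (Subgroup.relIndex_mul_relIndex H M X hHM hMX)

/-- A Hall subgroup is maximal among the subgroups of its kind. -/
theorem hall_eq [Finite G] {π : Set ℕ} {H K X : Subgroup G} (hH : Cfsg.IsPiHallOf π H X) (hHK : H ≤ K) (hKX : K ≤ X)
    (hK : ∀ p : ℕ, p.Prime → p ∣ Nat.card K → p ∈ π) : H = K := by
  refine le_antisymm hHK (Subgroup.relIndex_eq_one.1 ?_)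
  by_contra hne
  obtain ⟨p, hp, hd⟩ := Nat.exists_prime_and_dvd hne
  refine hH.2.2 p hp (hK p hp (hd.trans ⟨Nat.card H, by rw [mul_comm, card_rel hHK]⟩)) (hd.trans ?_)
  exact Dvd.intro _ (Subgroup.relIndex_mul_relIndex H K X hHK hKX)

/-- If every prime dividing the order is allowed, the whole group is the only Hall subgroup. -/
theorem hall_eq_self [Finite G] {π : Set ℕ} {H X : Subgroup G} (hH : Cfsg.IsPiHallOf π H X)
    (hX : ∀ p : ℕ, p.Prime → p ∣ Nat.card X → p ∈ π) : H = X := hall_eq hH hH.1 le_rfl hX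

theorem isPiHall_iff {π : Set ℕ} {X : Subgroup G} {H : Subgroup X} :
    Cfsg.IsPiHall π H ↔ Cfsg.IsPiHallOf π (H.map X.subtype) X := by
  have e : (H.map X.subtype).relIndex X = H.index := by
    rw [Subgroup.relIndex, Subgroup.subgroupOf, Subgroup.comap_map_eq_self_of_injective X.subtype_injective]
  have ec : Nat.card (H.map X.subtype) = Nat.card H :=
    (Nat.card_congr (H.equivMapOfInjective _ X.subtype_injective).toEquiv).symm
  unfold Cfsg.IsPiHall Cfsg.IsPiHallOf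
  rw [e, ec]
  exact ⟨fun h => ⟨Subgroup.map_subtype_le H, h⟩, fun h => h.2⟩

theorem isPiHallOf_top {π : Set ℕ} {H : Subgroup G} : Cfsg.IsPiHallOf π H ⊤ ↔ Cfsg.IsPiHall π H := by
  simp [Cfsg.IsPiHall, Cfsg.IsPiHallOf, Subgroup.relIndex_top_right]

section Trivial

variable [Finite G] {π : Set ℕ}

/-- The trivial situations: one relevant prime, or all of them. -/
def Easy (π : Set ℕ) (G : Type u) [Group G] : Prop :=
  (∀ r s : ℕ, r.Prime → s.Prime → r ∈ π → s ∈ π → r ∣ Nat.card G → s ∣ Nat.card G → r = s) ∨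
    ∀ r : ℕ, r.Prime → r ∣ Nat.card G → r ∈ π

theorem conj_map_eq (g : G) (H : Subgroup G) : H.map (MulAut.conj g).toMonoidHom = MulAut.conj g • H := rfl

/-- In the trivial situations the π-subgroups behave like Sylow subgroups. -/
theorem easy (h : Easy π G) :
    (∃ H : Subgroup G, Cfsg.IsPiHall π H) ∧ ∀ K H : Subgroup G, Cfsg.IsPiSubgroup π K → Cfsg.IsPiHall π H →
      ∃ g : G, K ≤ H.map (MulAut.conj g).toMonoidHom := by
  rcases h with h1 | hall
  swap
  · refine ⟨⟨⊤, fun p hp hd => hall p hp (by rwa [Subgroup.card_top] at hd), fun p hp _ hd => hp.one_lt.ne' (by simpa using hd)⟩,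
      fun K H _ hH => ⟨1, ?_⟩⟩
    have : H = ⊤ := hall_eq_self (isPiHallOf_top.2 hH) (fun p hp hd => hall p hp (by rwa [Subgroup.card_top] at hd))
    subst this
    rw [Subgroup.map_top_of_surjective (MulAut.conj (1 : G)).toMonoidHom (MulAut.conj (1 : G)).surjective]
    exact le_top
  by_cases hex : ∃ p : ℕ, p.Prime ∧ p ∈ π ∧ p ∣ Nat.card G
  swap
  · push Not at hex
    refine ⟨⟨⊥, fun p hp hd => absurd (Nat.dvd_one.1 (by simpa using hd)) hp.one_lt.ne',
      fun p hp hπ hd => hex p hp hπ (hd.trans (Subgroup.index_dvd_card _))⟩, fun K H hK hH => ⟨1, ?_⟩⟩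
    have hKb : K = ⊥ := by
      refine Subgroup.card_eq_one.1 ?_
      by_contra hne
      obtain ⟨p, hp, hd⟩ := Nat.exists_prime_and_dvd hne
      exact hex p hp (hK p hp hd) (hd.trans (Subgroup.card_subgroup_dvd_card K))
    subst hKb
    exact bot_le
  obtain ⟨p, hp, hpπ, hpd⟩ := hex
  haveI := Fact.mk hp
  have honly : ∀ r : ℕ, r.Prime → r ∈ π → r ∣ Nat.card G → r = p := fun r hr hrπ hrd => h1 r p hr hp hrπ hpπ hrd hpd
  have hpg : ∀ K : Subgroup G, Cfsg.IsPiSubgroup π K → IsPGroup p K := fun K hK => by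
    refine IsPGroup.of_card (n := (Nat.card K).factorization p) ?_
    refine Nat.eq_of_factorization_eq Nat.card_pos.ne' (pow_ne_zero _ hp.ne_zero) fun r => ?_
    rw [hp.factorization_pow, Finsupp.single_apply]
    split_ifs with hr
    · rw [hr]
    · by_contra hne
      have hrp : r.Prime := by
        by_contra h
        exact hne (Nat.factorization_eq_zero_of_not_prime _ h)
      have hrd := Nat.dvd_of_factorization_pos hne
      exact hr (honly r hrp (hK r hrp hrd) (hrd.trans (Subgroup.card_subgroup_dvd_card K))).symm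
  have hS : ∀ S : Sylow p G, Cfsg.IsPiHall π (S : Subgroup G) := fun S => ⟨fun r hr hd => by
      obtain ⟨k, hk⟩ := S.isPGroup'.exists_card_eq
      rw [hk] at hd
      rwa [(Nat.prime_dvd_prime_iff_eq hr hp).1 (hr.dvd_of_dvd_pow hd)],
    fun r hr hrπ hd => by
      obtain rfl := honly r hr hrπ (hd.trans (Subgroup.index_dvd_card _))
      exact S.not_dvd_index hd⟩
  obtain ⟨S⟩ : Nonempty (Sylow p G) := inferInstance
  refine ⟨⟨S, hS S⟩, fun K H hK hH => ?_⟩
  obtain ⟨Q, hQ⟩ := (hpg K hK).exists_le_sylow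
  obtain ⟨P, hP⟩ := (hpg H hH.1).exists_le_sylow
  have hHP : H = P := hall_eq (isPiHallOf_top.2 hH) hP le_top (hS P).1
  obtain ⟨g, hg⟩ := MulAction.exists_smul_eq G P Q
  refine ⟨g, ?_⟩
  rw [conj_map_eq, hHP, ← Sylow.coe_subgroup_smul, hg]
  exact hQ

theorem cpi_of_dom (hE : ∃ H : Subgroup G, Cfsg.IsPiHall π H)
    (hdom : ∀ K H : Subgroup G, Cfsg.IsPiSubgroup π K → Cfsg.IsPiHall π H → ∃ g : G, K ≤ H.map (MulAut.conj g).toMonoidHom) :
    Cfsg.IsCPiGroup π G := by
  refine ⟨hE, fun H K hH hK => ?_⟩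
  obtain ⟨g, hg⟩ := hdom K H hK.1 hH
  refine ⟨g, hall_eq (isPiHallOf_top.2 hK) hg le_top fun p hp hd => hH.1 p hp ?_⟩
  rwa [← Nat.card_congr (H.equivMapOfInjective _ (MulAut.conj g).injective).toEquiv] at hd

theorem dpi_of_dom (hE : ∃ H : Subgroup G, Cfsg.IsPiHall π H)
    (hdom : ∀ K H : Subgroup G, Cfsg.IsPiSubgroup π K → Cfsg.IsPiHall π H → ∃ g : G, K ≤ H.map (MulAut.conj g).toMonoidHom) :
    Cfsg.IsDPiGroup π G := by
  obtain ⟨H₀, hH₀⟩ := hE
  have hmax : ∀ K : Subgroup G, Maximal (Cfsg.IsPiSubgroup π) K → ∃ g : G, K = H₀.map (MulAut.conj g).toMonoidHom := by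
    intro K hK
    obtain ⟨g, hg⟩ := hdom K H₀ hK.1 hH₀
    refine ⟨g, le_antisymm hg (hK.2 (fun p hp hd => hH₀.1 p hp ?_) hg)⟩
    rwa [← Nat.card_congr (H₀.equivMapOfInjective _ (MulAut.conj g).injective).toEquiv] at hd
  intro H K hH hK
  obtain ⟨g, rfl⟩ := hmax H hH
  obtain ⟨k, rfl⟩ := hmax K hK
  refine ⟨k * g⁻¹, ?_⟩
  rw [Subgroup.map_map]
  congr 1
  ext x
  simp [MulAut.conj_apply, mul_assoc]

theorem exists_maximal_ge {K : Subgroup G} (hK : Cfsg.IsPiSubgroup π K) :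
    ∃ M : Subgroup G, K ≤ M ∧ Maximal (Cfsg.IsPiSubgroup π) M :=
  Finite.exists_le_maximal hK

/-- If maximal π-subgroups are conjugate they are Hall subgroups containing all others up to conjugation. -/
theorem hall_of_dpi (h : Cfsg.IsDPiGroup π G) :
    ∃ H : Subgroup G, Cfsg.IsPiHall π H ∧ ∀ K : Subgroup G, Cfsg.IsPiSubgroup π K →
      ∃ g : G, K ≤ H.map (MulAut.conj g).toMonoidHom := by
  obtain ⟨H, -, hH⟩ := exists_maximal_ge (G := G) (π := π) (K := ⊥)
    (fun p hp hd => absurd (Nat.dvd_one.1 (by simpa using hd)) hp.one_lt.ne')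
  have hdom : ∀ K : Subgroup G, Cfsg.IsPiSubgroup π K → ∃ g : G, K ≤ H.map (MulAut.conj g).toMonoidHom := by
    intro K hK
    obtain ⟨M, hKM, hM⟩ := exists_maximal_ge hK
    obtain ⟨g, hg⟩ := h H M hH hM
    exact ⟨g, hg ▸ hKM⟩
  refine ⟨H, ⟨hH.1, fun p hp hπ hd => ?_⟩, hdom⟩
  haveI := Fact.mk hp
  obtain ⟨S⟩ : Nonempty (Sylow p G) := inferInstance
  obtain ⟨g, hg⟩ := hdom S fun r hr hrd => by
    obtain ⟨k, hk⟩ := S.isPGroup'.exists_card_eq
    rw [hk] at hrd
    rwa [(Nat.prime_dvd_prime_iff_eq hr hp).1 (hr.dvd_of_dvd_pow hrd)]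
  refine S.not_dvd_index (hd.trans ?_)
  have hc : Nat.card (H.map (MulAut.conj g).toMonoidHom) = Nat.card H :=
    (Nat.card_congr (H.equivMapOfInjective _ (MulAut.conj g).injective).toEquiv).symm
  have e1 := Subgroup.card_mul_index H
  rw [← hc, ← Subgroup.card_mul_index (H.map (MulAut.conj g).toMonoidHom)] at e1
  rw [Nat.eq_of_mul_eq_mul_left Nat.card_pos e1]
  exact Subgroup.index_dvd_of_le hg

end Trivial

end Cfsg.Agent.Lib.HallSym
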