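import Mathlib
import Cfsg.Agent.Lib.HallSym.General

/-!
Set stabilisers in the symmetric and alternating groups.
-/

set_option autoImplicit false

namespace Cfsg.Agent.Lib.HallSym

open Equiv Equiv.Perm MulAction

variable {α : Type} [Fintype α] [DecidableEq α]

/-- The stabiliser of a set of points. -/
def setStab (A : Finset α) : Subgroup (Perm α) where
  carrier := {g | ∀ x, g x ∈ A ↔ x ∈ A}
  one_mem' _ := Iff.rfl
  mul_mem' {f g} hf hg x := (hf (g x)).trans (hg x)
  inv_mem' {f} hf x := by simpa using (hf (f⁻¹ x)).symm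

theorem mem_setStab {A : Finset α} {g : Perm α} : g ∈ setStab A ↔ ∀ x, g x ∈ A ↔ x ∈ A := Iff.rfl

theorem setStab_compl (A : Finset α) : setStab Aᶜ = setStab A := by
  ext g; simp [mem_setStab, not_iff_not]

theorem setStab_eq_range (A : Finset α) : setStab A = (subtypeCongrHom fun x => x ∈ A).range := by
  ext g
  constructor
  · intro hg
    refine ⟨(g.subtypePerm hg, g.subtypePerm fun x => not_congr (hg x)), Equiv.ext fun x => ?_⟩
    by_cases hx : x ∈ A <;> simp [subtypeCongrHom, Perm.subtypeCongr, hx] <;> rfl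
  · rintro ⟨⟨a, b⟩, rfl⟩ x
    by_cases hx : x ∈ A
    · simpa [subtypeCongrHom, Perm.subtypeCongr, hx] using (a ⟨x, hx⟩).2
    · simpa [subtypeCongrHom, Perm.subtypeCongr, hx] using (b ⟨x, hx⟩).2

theorem card_setStab (A : Finset α) :
    Nat.card (setStab A) = A.card.factorial * (Fintype.card α - A.card).factorial := by
  rw [setStab_eq_range, ← Nat.card_congr (MonoidHom.ofInjective (subtypeCongrHom_injective fun x => x ∈ A)).toEquiv,
    Nat.card_prod, Nat.card_perm, Nat.card_perm]
  simp [Fintype.card_subtype_compl]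

omit [Fintype α] in
theorem swap_mem_setStab {A : Finset α} {a b : α} (h : a ∈ A ↔ b ∈ A) : swap a b ∈ setStab A := fun x => by
  rcases eq_or_ne x a with rfl | hxa
  · simp [h]
  rcases eq_or_ne x b with rfl | hxb
  · simp [h]
  rw [swap_apply_of_ne_of_ne hxa hxb]

theorem eq_or_eq_of_alt_le {G : Subgroup (Perm α)} (hG : alternatingGroup α ≤ G) :
    G = alternatingGroup α ∨ G = ⊤ := by
  by_cases h : ∀ g ∈ G, g ∈ alternatingGroup α
  · exact .inl (le_antisymm h hG)
  right
  push Not at h
  obtain ⟨s, hs, hsodd⟩ := h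
  rw [eq_top_iff]
  intro g _
  by_cases hg : g ∈ alternatingGroup α
  · exact hG hg
  · have h1 : g * s⁻¹ ∈ alternatingGroup α := by
      rw [mem_alternatingGroup] at hg hsodd ⊢
      rw [map_mul, Equiv.Perm.sign_inv]
      rcases Int.units_eq_one_or (sign g) with e | e <;> rcases Int.units_eq_one_or (sign s) with e' | e' <;>
        simp_all
    simpa using G.mul_mem (hG h1) hs

theorem card_le_of_big {G : Subgroup (Perm α)} (hG : alternatingGroup α ≤ G) [Nontrivial α] :
    (Fintype.card α).factorial ≤ 2 * Nat.card G ∧ Nat.card G ∣ (Fintype.card α).factorial := by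
  constructor
  · have := Subgroup.card_le_of_le hG
    have h2 := two_mul_card_alternatingGroup (α := α)
    rw [Fintype.card_perm] at h2
    rw [Nat.card_eq_fintype_card (α := alternatingGroup α)] at this
    omega
  · have := Subgroup.card_subgroup_dvd_card G
    rwa [Nat.card_perm, Nat.card_eq_fintype_card (α := α)] at this

/-- All primes up to the degree divide the order. -/
theorem prime_dvd_big {G : Subgroup (Perm α)} (hG : alternatingGroup α ≤ G) (hn : 4 ≤ Fintype.card α) {p : ℕ}
    (hp : p.Prime) (hpn : p ≤ Fintype.card α) : p ∣ Nat.card G := by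
  refine dvd_trans ?_ (Subgroup.card_dvd_of_le hG)
  haveI : Nontrivial α := Fintype.one_lt_card_iff_nontrivial.1 (by omega)
  have h2 := two_mul_card_alternatingGroup (α := α)
  rw [Fintype.card_perm, ← Nat.card_eq_fintype_card (α := alternatingGroup α)] at h2
  by_cases hp2 : p = 2
  · subst hp2
    have h8 : 4 ∣ (Fintype.card α).factorial :=
      (show 4 ∣ (4 : ℕ).factorial by decide).trans (Nat.factorial_dvd_factorial hn)
    omega
  · have h3 : p ∣ 2 * Nat.card (alternatingGroup α) := h2 ▸ (Nat.Prime.dvd_factorial hp).2 hpn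
    exact (hp.dvd_mul.1 h3).resolve_left fun h => hp2 ((Nat.prime_dvd_prime_iff_eq hp Nat.prime_two).1 h)

theorem prime_dvd_big_iff {G : Subgroup (Perm α)} (hG : alternatingGroup α ≤ G) (hn : 4 ≤ Fintype.card α) {p : ℕ}
    (hp : p.Prime) : p ∣ Nat.card G ↔ p ≤ Fintype.card α := by
  haveI : Nontrivial α := Fintype.one_lt_card_iff_nontrivial.1 (by omega)
  exact ⟨fun h => (Nat.Prime.dvd_factorial hp).1 (h.trans (card_le_of_big hG).2), prime_dvd_big hG hn hp⟩

/-- The index of the stabiliser of a set. -/
theorem relIndex_setStab {G : Subgroup (Perm α)} (hG : alternatingGroup α ≤ G) (A : Finset α)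
    (hA : 3 ≤ Fintype.card α) :
    (G ⊓ setStab A).relIndex G = (Fintype.card α).choose A.card := by
  haveI : Nontrivial α := Fintype.one_lt_card_iff_nontrivial.1 (by omega)
  have hk : A.card ≤ Fintype.card α := Finset.card_le_univ A
  have hC := Nat.choose_mul_factorial_mul_factorial hk
  rw [mul_assoc, ← card_setStab] at hC
  have h1 := card_rel (inf_le_left : G ⊓ setStab A ≤ G)
  have h2 := card_rel (inf_le_right : G ⊓ setStab A ≤ setStab A)
  rw [Subgroup.inf_relIndex_right] at h2
  have hGi : G.relIndex (setStab A) * Nat.card G = (Fintype.card α).factorial := by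
    rcases eq_or_eq_of_alt_le hG with rfl | rfl
    swap
    · rw [Subgroup.relIndex_top_left, one_mul, Subgroup.card_top, Nat.card_perm, Nat.card_eq_fintype_card]
    have h2A := two_mul_card_alternatingGroup (α := α)
    rw [Fintype.card_perm, ← Nat.card_eq_fintype_card (α := alternatingGroup α)] at h2A
    have hdvd : (alternatingGroup α).relIndex (setStab A) ∣ 2 := by
      rw [← alternatingGroup.index_eq_two (α := α)]
      exact Subgroup.relIndex_dvd_index_of_normal _ _
    have hne : (alternatingGroup α).relIndex (setStab A) ≠ 1 := fun h => by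
      rw [Subgroup.relIndex_eq_one] at h
      obtain ⟨a, b, hab, hiff⟩ : ∃ a b, a ≠ b ∧ (a ∈ A ↔ b ∈ A) := by
        have hsum := Finset.card_add_card_compl A
        rcases Nat.lt_or_ge 1 A.card with h1 | h1
        · obtain ⟨a, ha, b, hb, hab⟩ := Finset.one_lt_card.1 h1
          exact ⟨a, b, hab, iff_of_true ha hb⟩
        · obtain ⟨a, ha, b, hb, hab⟩ := Finset.one_lt_card.1 (show 1 < Aᶜ.card by omega)
          exact ⟨a, b, hab, iff_of_false (Finset.mem_compl.1 ha) (Finset.mem_compl.1 hb)⟩
      have := mem_alternatingGroup.1 (h (swap_mem_setStab hiff))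
      rw [sign_swap hab] at this
      exact absurd this (by decide)
    rcases (Nat.dvd_prime Nat.prime_two).1 hdvd with e | e
    · exact absurd e hne
    · rw [e, h2A]
  have hpos : 0 < Nat.card (G ⊓ setStab A : Subgroup (Perm α)) := Nat.card_pos
  have hpos' : 0 < G.relIndex (setStab A) := Nat.pos_of_ne_zero fun h0 => by
    rw [h0, zero_mul] at hGi; exact (Nat.factorial_pos _).ne hGi
  refine Nat.eq_of_mul_eq_mul_left (Nat.mul_pos hpos hpos') ?_
  calc _ = G.relIndex (setStab A) * Nat.card G := by rw [← h1]; ring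
    _ = (Fintype.card α).choose A.card * Nat.card (setStab A) := by rw [hGi, hC]
    _ = _ := by rw [← h2]; ring

omit [Fintype α] in
theorem range_ofSubtype_mem {A : Finset α} {g : Perm α} :
    g ∈ (ofSubtype : Perm {x // x ∈ A} →* Perm α).range ↔ ∀ x, x ∉ A → g x = x := by
  constructor
  · rintro ⟨f, rfl⟩ x hx
    exact ofSubtype_apply_of_not_mem f hx
  · intro h
    have h1 : ∀ x, g x ∈ A ↔ x ∈ A := fun x => by
      constructor
      · intro hg; by_contra hx; exact hx (h x hx ▸ hg)
      · intro hx; by_contra hg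
        exact hg (by rwa [g.injective (h _ hg)])
    exact ⟨g.subtypePerm h1, ofSubtype_subtypePerm h1 fun x hx => by by_contra hxA; exact hx (h x hxA)⟩

/-- Restricting a Hall subgroup to the permutations moving only the points of an invariant set. -/
theorem hall_restrict {π : Set ℕ} {G H : Subgroup (Perm α)} (hH : Cfsg.IsPiHallOf π H G) {A : Finset α}
    (hA : H ≤ setStab A) :
    Cfsg.IsPiHallOf π (H.comap (ofSubtype : Perm {x // x ∈ A} →* Perm α)) (G.comap ofSubtype) := by
  obtain ⟨e, he⟩ : ∃ e, e = (ofSubtype : Perm {x // x ∈ A} →* Perm α) := ⟨_, rfl⟩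
  rw [← he]
  have hrange : ∀ g ∈ e.range, g ∈ setStab A := by
    rintro _ ⟨f, rfl⟩ x
    rw [he]
    by_cases hx : x ∈ A
    · exact iff_of_true (by rw [ofSubtype_apply_of_mem f hx]; exact (f ⟨x, hx⟩).2) hx
    · rw [ofSubtype_apply_of_not_mem f hx]
  have hnorm : ((G ⊓ e.range).subgroupOf (G ⊓ setStab A)).Normal := by
    constructor
    intro t ht g
    rw [Subgroup.mem_subgroupOf] at ht ⊢
    refine ⟨?_, ?_⟩
    · push_cast
      exact G.mul_mem (G.mul_mem g.2.1 ht.1) (G.inv_mem g.2.1)
    · push_cast
      have ht' : ∀ x, x ∉ A → (t : Perm α) x = x := range_ofSubtype_mem.1 (he ▸ ht.2)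
      refine he ▸ range_ofSubtype_mem.2 fun x hx => ?_
      have hgx : (g : Perm α)⁻¹ x ∉ A := fun h => hx ((Subgroup.inv_mem _ g.2.2 x).1 h)
      rw [Perm.mul_apply, Perm.mul_apply, ht' _ hgx]; simp
  have h := hall_inf hH (le_inf hH.1 hA) inf_le_left (inf_le_inf_left G hrange) hnorm
  have hinj : Function.Injective e := he ▸ ofSubtype_injective
  refine ⟨Subgroup.comap_mono hH.1, fun p hp hd => hH.2.1 p hp (hd.trans ?_), fun p hp hπ hd => h.2.2 p hp hπ (hd.trans (dvd_of_eq ?_))⟩
  · rw [Nat.card_congr ((H.comap e).equivMapOfInjective e hinj).toEquiv]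
    exact Subgroup.card_dvd_of_le (Subgroup.map_comap_le _ _)
  · rw [Subgroup.relIndex_comap, Subgroup.map_comap_eq, Subgroup.inf_relIndex_right, inf_comm]

theorem alt_le_comap {G : Subgroup (Perm α)} (hG : alternatingGroup α ≤ G) (A : Finset α) :
    alternatingGroup {x // x ∈ A} ≤ G.comap (ofSubtype : Perm {x // x ∈ A} →* Perm α) := fun f hf =>
  hG (by rw [mem_alternatingGroup, sign_ofSubtype]; exact mem_alternatingGroup.1 hf)

/-- No proper subgroup of small index. -/
theorem alt_le_of_index_lt {G H : Subgroup (Perm α)} (hG : alternatingGroup α ≤ G) (hn : 5 ≤ Fintype.card α)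
    (hi : H.relIndex G < Fintype.card α) (hi0 : H.relIndex G ≠ 0) : alternatingGroup α ≤ H := by
  haveI : IsSimpleGroup (alternatingGroup α) := alternatingGroup.isSimpleGroup (by rw [Nat.card_eq_fintype_card]; exact hn)
  obtain ⟨K, hK⟩ : ∃ K, K = H.subgroupOf (alternatingGroup α) := ⟨_, rfl⟩
  have hKi : K.index < Fintype.card α := by
    rw [hK]
    exact lt_of_le_of_lt (Subgroup.relIndex_le_of_le_right hG hi0) hi
  rcases Subgroup.Normal.eq_bot_or_eq_top (Subgroup.normalCore_normal K) with h | h
  · exfalso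
    haveI : Nontrivial α := Fintype.one_lt_card_iff_nontrivial.1 (by omega)
    have hinj : Function.Injective (MulAction.toPermHom (alternatingGroup α) (alternatingGroup α ⧸ K)) :=
      (MonoidHom.ker_eq_bot_iff _).1 (by rw [← Subgroup.normalCore_eq_ker, h])
    have h1 := Nat.card_le_card_of_injective _ hinj
    rw [Nat.card_perm] at h1
    have h2A := two_mul_card_alternatingGroup (α := α)
    rw [Fintype.card_perm, ← Nat.card_eq_fintype_card (α := alternatingGroup α)] at h2A
    have h3 : (Nat.card (alternatingGroup α ⧸ K)).factorial ≤ (Fintype.card α - 1).factorial :=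
      Nat.factorial_le (by rw [← Subgroup.index_eq_card]; omega)
    have h4 := Nat.mul_factorial_pred (show Fintype.card α ≠ 0 by omega)
    have h5 := Nat.factorial_pos (Fintype.card α - 1)
    nlinarith
  · intro g hg
    have : (⟨g, hg⟩ : alternatingGroup α) ∈ K := K.normalCore_le (h ▸ Subgroup.mem_top _)
    rw [hK] at this
    exact this

/-- An even permutation moving one point and fixing another. -/
theorem exists_move (hn : 4 ≤ Fintype.card α) {z w : α} (hzw : w ≠ z) : ∃ g ∈ alternatingGroup α, g z = z ∧ g w ≠ w := by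
  obtain ⟨a, ha, b, hb, hab⟩ := Finset.one_lt_card.1 (show 1 < (({z, w} : Finset α)ᶜ).card by
    rw [Finset.card_compl, Finset.card_pair hzw.symm]; omega)
  simp only [Finset.mem_compl, Finset.mem_insert, Finset.mem_singleton, not_or] at ha hb
  refine ⟨swap w a * swap a b, ?_, ?_, ?_⟩
  · rw [mem_alternatingGroup, map_mul, sign_swap (Ne.symm ha.2), sign_swap hab]; rfl
  · rw [Perm.mul_apply, swap_apply_of_ne_of_ne (Ne.symm ha.1) (Ne.symm hb.1),
      swap_apply_of_ne_of_ne hzw.symm (Ne.symm ha.1)]
  · rw [Perm.mul_apply, swap_apply_of_ne_of_ne (Ne.symm ha.2) (Ne.symm hb.2), swap_apply_left]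
    exact ha.2

end Cfsg.Agent.Lib.HallSym
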