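import Mathlib
import Cfsg.Agent.Lib.HallSym.Perm
import Cfsg.Agent.Lib.Perm.Jordan

/-!
Transitive groups of degree eight or nine whose point stabiliser is a stabiliser of a three- or four-set.
-/

set_option autoImplicit false

namespace Cfsg.Agent.Lib.HallSym

open Equiv Equiv.Perm MulAction
open scoped Pointwise

variable {α : Type} [Fintype α] [DecidableEq α]

/-- The stabiliser of a division into a set and its complement. -/
def splitStab (A : Finset α) : Subgroup (Perm α) where
  carrier := {g | (∀ x, g x ∈ A ↔ x ∈ A) ∨ ∀ x, g x ∈ A ↔ x ∉ A}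
  one_mem' := .inl fun _ => Iff.rfl
  mul_mem' {f g} hf hg := by
    rcases hf with hf | hf <;> rcases hg with hg | hg
    · exact .inl fun x => (hf (g x)).trans (hg x)
    · exact .inr fun x => (hf (g x)).trans (hg x)
    · exact .inr fun x => (hf (g x)).trans (not_congr (hg x))
    · exact .inl fun x => (hf (g x)).trans (by rw [hg x, not_not])
  inv_mem' {f} hf := by
    rcases hf with hf | hf
    · exact .inl fun x => by simpa using (hf (f⁻¹ x)).symm
    · refine .inr fun x => ?_
      have h := hf (f⁻¹ x)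
      rw [show f (f⁻¹ x) = x by simp] at h
      rw [h, not_not]

theorem mem_splitStab {A : Finset α} {g : Perm α} :
    g ∈ splitStab A ↔ (∀ x, g x ∈ A ↔ x ∈ A) ∨ ∀ x, g x ∈ A ↔ x ∉ A := Iff.rfl

theorem setStab_le_splitStab (A : Finset α) : setStab A ≤ splitStab A := fun _ h => .inl h

/-- The block left by a three- or four-set. -/
theorem block_case {H : Subgroup (Perm α)} [IsPretransitive H α] {x : α} {A : Finset α} (hxA : x ∉ A)
    (hn : (Fintype.card α = 8 ∧ A.card = 3) ∨ (Fintype.card α = 9 ∧ A.card = 4)) (hH : ¬ alternatingGroup α ≤ H)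
    (hstab : ∀ g ∈ alternatingGroup α, g x = x → (∀ y, g y ∈ A ↔ y ∈ A) → g ∈ H) :
    Fintype.card α = 8 ∧ ∃ B : Finset α, B.card = 4 ∧ H ≤ splitStab B := by
  classical
  have hA3 : 2 < A.card := by omega
  have hC3 : 2 < ((insert x A)ᶜ).card := by
    rw [Finset.card_compl, Finset.card_insert_of_notMem hxA]; omega
  have hcyc : ∀ (S : Finset α), (S = A ∨ S = (insert x A)ᶜ) → ∀ a ∈ S, ∀ b ∈ S, a ≠ b →
      ∃ g ∈ H, g x = x ∧ g a = b ∧ g.IsThreeCycle := by
    intro S hS a ha b hb hab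
    obtain ⟨c, hc⟩ : ∃ c, c ∈ (S.erase a).erase b := Finset.card_pos.1 (by
      rw [Finset.card_erase_of_mem (Finset.mem_erase.2 ⟨hab.symm, hb⟩), Finset.card_erase_of_mem ha]
      rcases hS with rfl | rfl <;> omega)
    simp only [Finset.mem_erase] at hc
    have h3 : (swap a b * swap a c).IsThreeCycle := isThreeCycle_swap_mul_swap_same hab hc.2.1.symm hc.1.symm
    have hxS : x ∉ S := by
      rcases hS with rfl | rfl
      · exact hxA
      · simp
    have hx : (swap a b * swap a c) x = x := by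
      rw [Perm.mul_apply, swap_apply_of_ne_of_ne (fun e : x = a => hxS (e.symm ▸ ha)) (fun e : x = c => hxS (e.symm ▸ hc.2.2)),
        swap_apply_of_ne_of_ne (fun e : x = a => hxS (e.symm ▸ ha)) (fun e : x = b => hxS (e.symm ▸ hb))]
    have hside : ∀ u ∈ S, ∀ v ∈ S, (u ∈ A ↔ v ∈ A) := by
      intro u hu v hv
      rcases hS with rfl | rfl
      · exact iff_of_true hu hv
      · simp only [Finset.mem_compl, Finset.mem_insert, not_or] at hu hv
        exact iff_of_false hu.2 hv.2
    obtain ⟨g, hgd⟩ : ∃ g, g = swap a b * (swap a c) := ⟨_, rfl⟩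
    refine ⟨g⁻¹, ?_, ?_, ?_, (hgd ▸ h3).inv⟩
    · refine H.inv_mem (hstab g ?_ (hgd ▸ hx) ?_)
      · rw [mem_alternatingGroup, hgd]; exact h3.sign
      · rw [hgd]
        intro y
        rw [Perm.mul_apply, swap_mem_setStab (hside a ha b hb) _, swap_mem_setStab (hside a ha c hc.2.2) _]
    · rw [Perm.inv_eq_iff_eq, hgd]; exact hx.symm
    · rw [Perm.inv_eq_iff_eq, hgd, Perm.mul_apply, swap_apply_of_ne_of_ne hab.symm hc.1.symm, swap_apply_right]
  have hnp : ¬ IsPreprimitive H α := by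
    intro hP
    obtain ⟨a, ha, b, hb, hab⟩ := Finset.one_lt_card.1 (show 1 < A.card by omega)
    obtain ⟨g, hg, -, -, h3⟩ := hcyc A (.inl rfl) a ha b hb hab
    exact hH (Perm.alternatingGroup_le_of_prime_cycle H hP Nat.prime_three (by omega) h3.isCycle h3.card_support hg)
  obtain ⟨B, hxB, hB, hBnt⟩ : ∃ B : Set α, x ∈ B ∧ IsBlock H B ∧ ¬ IsTrivialBlock B := by
    by_contra! hc
    exact hnp (IsPreprimitive.of_isTrivialBlock_base x fun {B} h1 h2 => hc B h1 h2)
  obtain ⟨Bf, rfl⟩ : ∃ Bf : Finset α, B = ↑Bf := ⟨B.toFinset, by simp⟩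
  rw [Finset.mem_coe] at hxB
  have hinv : ∀ g ∈ H, g x = x → ∀ y ∈ Bf, g y ∈ Bf := by
    intro g hg hgx y hy
    rcases hB.smul_eq_or_disjoint (⟨g, hg⟩ : H) with e | e
    · have := Set.smul_mem_smul_set (a := (⟨g, hg⟩ : H)) (Finset.mem_coe.2 hy)
      rw [e] at this
      exact this
    · refine absurd e (Set.not_disjoint_iff.2 ⟨x, ?_, hxB⟩)
      have := Set.smul_mem_smul_set (a := (⟨g, hg⟩ : H)) (Finset.mem_coe.2 hxB)
      rwa [show (⟨g, hg⟩ : H) • x = x from hgx] at this
  have hside : ∀ (S : Finset α), (S = A ∨ S = (insert x A)ᶜ) → S ⊆ Bf ∨ Disjoint S Bf := by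
    intro S hS
    by_cases hd : Disjoint S Bf
    · exact .inr hd
    refine .inl fun b hb => ?_
    obtain ⟨a, ha, haB⟩ := Finset.not_disjoint_iff.1 hd
    rcases eq_or_ne a b with rfl | hab
    · exact haB
    · obtain ⟨g, hg, hgx, hga, -⟩ := hcyc S hS a ha b hb hab
      exact hga ▸ hinv g hg hgx a haB
  have hcardB : Bf.card ∣ Fintype.card α := by
    have := hB.ncard_dvd_card ⟨x, hxB⟩
    rwa [Set.ncard_coe_finset, Nat.card_eq_fintype_card] at this
  have hne1 : Bf.card ≠ 1 := fun h => hBnt (.inl (by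
    obtain ⟨y, rfl⟩ := Finset.card_eq_one.1 h; simp))
  have hne2 : Bf ≠ Finset.univ := fun h => hBnt (.inr (by simp [h]))
  have hsplit : Bf.card = 1 + (Bf ∩ A).card + (Bf ∩ (insert x A)ᶜ).card := by
    have e : Bf = insert x ((Bf ∩ A) ∪ (Bf ∩ (insert x A)ᶜ)) := by
      ext y
      simp only [Finset.mem_insert, Finset.mem_union, Finset.mem_inter, Finset.mem_compl, not_or]
      constructor
      · intro hy
        by_cases hyx : y = x
        · exact .inl hyx
        by_cases hyA : y ∈ A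
        · exact .inr (.inl ⟨hy, hyA⟩)
        · exact .inr (.inr ⟨hy, hyx, hyA⟩)
      · rintro (rfl | ⟨h, -⟩ | ⟨h, -⟩) <;> assumption
    conv_lhs => rw [e]
    rw [Finset.card_insert_of_notMem (by simp [hxA]), Finset.card_union_of_disjoint (by
      rw [Finset.disjoint_left]
      intro y hy hy'
      simp only [Finset.mem_inter, Finset.mem_compl, Finset.mem_insert, not_or] at hy hy'
      exact hy'.2.2 hy.2)]
    omega
  have hz : ∀ S : Finset α, (S = A ∨ S = (insert x A)ᶜ) → (Bf ∩ S).card = 0 ∨ (Bf ∩ S).card = S.card := fun S hS =>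
    (hside S hS).symm.imp (fun h => by rw [Finset.card_eq_zero, ← Finset.disjoint_iff_inter_eq_empty]; exact h.symm)
      (fun h => by rw [Finset.inter_eq_right.2 h])
  have hBlt : Bf.card < Fintype.card α := lt_of_le_of_ne (Finset.card_le_univ _) fun h => hne2 (Finset.eq_univ_of_card _ h)
  have hCc : ((insert x A)ᶜ).card = Fintype.card α - (A.card + 1) := by
    rw [Finset.card_compl, Finset.card_insert_of_notMem hxA]
  have h8 : Fintype.card α = 8 ∧ Bf.card = 4 := by
    rcases hz A (.inl rfl) with a | a <;> rcases hz _ (.inr rfl) with c | c <;> rw [a, c] at hsplit <;> (try rw [hCc] at hsplit) <;>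
      rcases hn with ⟨n1, n2⟩ | ⟨n1, n2⟩ <;> rw [n1] at hBlt hcardB ⊢ <;> (try rw [n1] at hsplit) <;>
        first | omega | (rw [hsplit, n2] at hcardB; norm_num at hcardB)
  refine ⟨h8.1, Bf, h8.2, fun g hg => ?_⟩
  have himg : ∀ y, g y ∈ (⟨g, hg⟩ : H) • (Bf : Set α) ↔ y ∈ Bf := fun y => by
    rw [show g y = (⟨g, hg⟩ : H) • y from rfl, Set.smul_mem_smul_set_iff, Finset.mem_coe]
  rcases hB.smul_eq_or_disjoint (⟨g, hg⟩ : H) with e | e
  · exact .inl fun y => by rw [← himg y, e, Finset.mem_coe]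
  · refine .inr fun y => ⟨fun h1 h2 => (Set.disjoint_left.1 e ((himg y).2 h2)) h1, fun h => ?_⟩
    have hsub : Bf.image g ⊆ Bfᶜ := fun z hz => by
      obtain ⟨w, hw, rfl⟩ := Finset.mem_image.1 hz
      exact Finset.mem_compl.2 fun h' => Set.disjoint_left.1 e ((himg w).2 hw) h'
    have heq : Bf.image g = Bfᶜ := Finset.eq_of_subset_of_card_le hsub (by
      rw [Finset.card_image_of_injective _ g.injective, Finset.card_compl]; omega)
    by_contra hgy
    have : g y ∈ Bf.image g := heq ▸ Finset.mem_compl.2 hgy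
    obtain ⟨w, hw, hwy⟩ := Finset.mem_image.1 this
    exact h (g.injective hwy ▸ hw)

end Cfsg.Agent.Lib.HallSym
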