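import Mathlib

/-!
A soluble transitive group of prime degree has point stabilisers of order dividing the degree minus one.
-/

set_option autoImplicit false

namespace Cfsg.Agent.Lib.HallSym

open MulAction

theorem card_stab_dvd {α : Type} [Fintype α] (H : Subgroup (Equiv.Perm α)) [IsPretransitive H α]
    [Group.IsSolvable H] (hn : (Fintype.card α).Prime) (x : α) :
    Nat.card (stabilizer H x) ∣ Fintype.card α - 1 := by
  classical
  have hc : Nat.card α = Fintype.card α := Nat.card_eq_fintype_card
  haveI : IsPreprimitive H α := IsPreprimitive.of_prime_card (hc ▸ hn)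
  have hne : (⊤ : Subgroup H) ≠ ⊥ := fun h => by
    haveI : Subsingleton H := Subgroup.subsingleton_iff.1 (subsingleton_of_top_le_bot h.le)
    haveI : Subsingleton α := ⟨fun a b => by
      obtain ⟨g, rfl⟩ := exists_smul_eq H a b
      rw [Subsingleton.elim g 1, one_smul]⟩
    have := Fintype.card_le_one_iff_subsingleton.2 (inferInstance : Subsingleton α)
    exact hn.one_lt.not_ge this
  obtain ⟨k, hk⟩ := (Group.isSolvable_def H).1 inferInstance
  obtain ⟨N, hNn, hN0, hab⟩ : ∃ N : Subgroup H, N.Normal ∧ N ≠ ⊥ ∧ ∀ a ∈ N, ∀ b ∈ N, a * b = b * a := by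
    induction k with
    | zero => exact absurd hk hne
    | succ k ih =>
      by_cases h : derivedSeries H k = ⊥
      · exact ih h
      · refine ⟨derivedSeries H k, derivedSeries_normal H k, h, fun a ha b hb => ?_⟩
        rw [derivedSeries_succ, Subgroup.commutator_eq_bot_iff_le_centralizer] at hk
        exact (Subgroup.mem_centralizer_iff.1 (hk ha) b hb).symm
  haveI := hNn
  haveI : IsPretransitive N α := by
    refine IsQuasiPreprimitive.isPretransitive_of_normal (G := H) fun h => hN0 ?_
    rw [Subgroup.eq_bot_iff_forall]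
    intro g hg
    refine Subtype.ext (Equiv.ext fun y => ?_)
    have hy : y ∈ fixedPoints N α := h ▸ Set.mem_univ y
    exact hy ⟨g, hg⟩
  have hreg : ∀ u ∈ N, u • x = x → u = 1 := fun u hu hx => Subtype.ext (Equiv.ext fun y => by
    obtain ⟨⟨v, hv⟩, rfl⟩ := exists_smul_eq N x y
    show u • v • x = v • x
    rw [← mul_smul, hab u hu v hv, mul_smul, hx])
  have hbij : Function.Bijective fun u : N => u • x := ⟨fun u v h => by
      have h1 : ((v : H)⁻¹ * u) • x = x := by
        rw [mul_smul, inv_smul_eq_iff]
        exact h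
      exact Subtype.ext (inv_mul_eq_one.1 (hreg _ (N.mul_mem (N.inv_mem v.2) u.2) h1)).symm,
    fun y => exists_smul_eq N x y⟩
  have hcard : Nat.card N = Fintype.card α := by rw [Nat.card_congr (Equiv.ofBijective _ hbij), hc]
  haveI := Fact.mk hn
  haveI : IsCyclic N := isCyclic_of_prime_card hcard
  obtain ⟨φ, hφ⟩ : ∃ φ : stabilizer H x →* MulAut N, φ = (MulAut.conjNormal (H := N)).comp (stabilizer H x).subtype := ⟨_, rfl⟩
  have hinj : Function.Injective φ := by
    refine (injective_iff_map_eq_one φ).2 fun h hh => Subtype.ext (Subtype.ext (Equiv.ext fun y => ?_))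
    obtain ⟨u, rfl⟩ := exists_smul_eq N x y
    have hcomm : (h : H) * u * (h : H)⁻¹ = u := by
      have := congrArg Subtype.val (MulEquiv.congr_fun hh u)
      rw [hφ] at this
      simpa [MulAut.conjNormal_apply] using this
    rw [mul_inv_eq_iff_eq_mul] at hcomm
    show (h : H) • ((u : H) • x) = (u : H) • x
    rw [← mul_smul, hcomm, mul_smul, h.2]
  have := Subgroup.card_dvd_of_injective φ hinj
  rwa [IsCyclic.card_mulAut, hcard, Nat.totient_prime hn] at this

end Cfsg.Agent.Lib.HallSym
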