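import Mathlib
import Cfsg.Agent.Lib.HallSym.Binom
import Cfsg.Agent.Lib.HallSym.Blocks
import Cfsg.Agent.Lib.HallSym.PrimeDegree
import Cfsg.Agent.Lib.Characters.Burnside

/-!
The Hall subgroups of the symmetric and alternating groups.
-/

set_option autoImplicit false

namespace Cfsg.Agent.Lib.HallSym

open Equiv Equiv.Perm MulAction

/-- Two primes of the set are at most the degree. -/
def Two (π : Set ℕ) (n : ℕ) : Prop := ∃ r s : ℕ, r.Prime ∧ s.Prime ∧ r ≠ s ∧ r ∈ π ∧ s ∈ π ∧ r ≤ n ∧ s ≤ n

/-- All primes up to the degree are in the set. -/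
def AllIn (π : Set ℕ) (n : ℕ) : Prop := ∀ r : ℕ, r.Prime → r ≤ n → r ∈ π

/-- Prime degree. -/
def ClsP (π : Set ℕ) (n : ℕ) : Prop := n.Prime ∧ ∀ r : ℕ, r.Prime → r ≤ n → (r ∈ π ↔ r < n)

/-- Only two and three. -/
def P23 (π : Set ℕ) (n : ℕ) : Prop := ∀ r : ℕ, r.Prime → r ≤ n → (r ∈ π ↔ r = 2 ∨ r = 3)

section General

variable {α : Type} [Fintype α] [DecidableEq α]

theorem exists_lift {A : Finset α} {g : Perm α} (h : ∀ x, x ∉ A → g x = x) :
    ∃ f : Perm {x // x ∈ A}, ofSubtype f = g := range_ofSubtype_mem.2 h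

theorem mem_point {x : α} {g : Perm α} : g ∈ setStab ({x} : Finset α) ↔ g x = x := by
  rw [mem_setStab]
  refine ⟨fun h => Finset.mem_singleton.1 ((h x).2 (Finset.mem_singleton_self x)), fun h y => ?_⟩
  rw [Finset.mem_singleton, Finset.mem_singleton]
  exact ⟨fun e => g.injective (e.trans h.symm), fun e => e ▸ h⟩

theorem contra_of_alt {π : Set ℕ} {G H : Subgroup (Perm α)} (hn : 4 ≤ Fintype.card α) (hH : Cfsg.IsPiHallOf π H G)
    (h : alternatingGroup α ≤ H) : AllIn π (Fintype.card α) := fun r hr hrn =>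
  hH.2.1 r hr (prime_dvd_big h hn hr hrn)

/-- A transitive Hall subgroup gives one for the stabiliser of a point. -/
theorem point_data {π : Set ℕ} {G H : Subgroup (Perm α)} (hG : alternatingGroup α ≤ G) (hn : 3 ≤ Fintype.card α)
    (hH : Cfsg.IsPiHallOf π H G) (hT : IsPretransitive H α) (x : α) :
    Nat.card H = Fintype.card α * Nat.card (H ⊓ setStab {x} : Subgroup (Perm α)) ∧
      (H.comap (ofSubtype : Perm {y // y ∈ ({x} : Finset α)ᶜ} →* Perm α)).relIndex (G.comap ofSubtype) = H.relIndex G ∧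
      Cfsg.IsPiHallOf π (H.comap (ofSubtype : Perm {y // y ∈ ({x} : Finset α)ᶜ} →* Perm α)) (G.comap ofSubtype) ∧
      Nat.card (H.comap (ofSubtype : Perm {y // y ∈ ({x} : Finset α)ᶜ} →* Perm α)) = Nat.card (H ⊓ setStab {x} : Subgroup (Perm α)) := by
  have hstab : (H ⊓ setStab {x}).subgroupOf H = stabilizer H x := by
    ext g
    simp [Subgroup.mem_subgroupOf, mem_point, mem_stabilizer_iff]
    rfl
  have hi : (H ⊓ setStab {x}).relIndex H = Fintype.card α := by
    rw [Subgroup.relIndex, hstab, index_stabilizer_of_transitive, Nat.card_eq_fintype_card]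
  have h1 := card_rel (inf_le_left : H ⊓ setStab {x} ≤ H)
  rw [hi] at h1
  have hGi := relIndex_setStab hG {x} hn
  rw [Finset.card_singleton, Nat.choose_one_right] at hGi
  have hrange : (ofSubtype : Perm {y // y ∈ ({x} : Finset α)ᶜ} →* Perm α).range = setStab {x} := by
    ext g
    rw [range_ofSubtype_mem, mem_point]
    simp
  have e1 : (H.comap (ofSubtype : Perm {y // y ∈ ({x} : Finset α)ᶜ} →* Perm α)).relIndex (G.comap ofSubtype) =
      (H ⊓ setStab {x}).relIndex (G ⊓ setStab {x}) := by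
    rw [Subgroup.relIndex_comap, Subgroup.map_comap_eq, hrange, inf_comm (setStab {x}) G,
      ← Subgroup.inf_relIndex_right H, ← inf_assoc, inf_of_le_left hH.1]
  have hidx : (H ⊓ setStab {x}).relIndex (G ⊓ setStab {x}) = H.relIndex G := by
    have h2 := card_rel (inf_le_inf_right (setStab {x}) hH.1)
    have h3 := card_rel (inf_le_left : G ⊓ setStab {x} ≤ G)
    have h4 := card_rel hH.1
    rw [hGi] at h3
    refine Nat.eq_of_mul_eq_mul_left (Nat.card_pos (α := H)) ?_
    rw [h4, ← h1, ← h3, ← h2]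
    ring
  have ec : Nat.card (H.comap (ofSubtype : Perm {y // y ∈ ({x} : Finset α)ᶜ} →* Perm α)) = Nat.card (H ⊓ setStab {x} : Subgroup (Perm α)) := by
    rw [Nat.card_congr ((H.comap (ofSubtype : Perm {y // y ∈ ({x} : Finset α)ᶜ} →* Perm α)).equivMapOfInjective _ ofSubtype_injective).toEquiv,
      Subgroup.map_comap_eq, hrange, inf_comm]
  refine ⟨by rw [← h1, mul_comm], e1.trans hidx, ⟨Subgroup.comap_mono hH.1, fun p hp hd => hH.2.1 p hp ?_, fun p hp hπ hd =>
    hH.2.2 p hp hπ (by rwa [e1, hidx] at hd)⟩, ec⟩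
  rw [ec] at hd
  exact hd.trans (Subgroup.card_dvd_of_le inf_le_left)

theorem prime_of_mem {π : Set ℕ} {m : ℕ} (hm : 2 ≤ m) (h : ∀ r : ℕ, r.Prime → r ∣ m → r ∉ π) (hall : AllIn π (m - 1)) : m.Prime := by
  by_contra hnp
  have hp := Nat.minFac_prime (show m ≠ 1 by omega)
  have hd := Nat.minFac_dvd m
  have hlt : m.minFac < m := lt_of_le_of_ne (Nat.minFac_le (by omega)) fun e => hnp (e ▸ hp)
  exact h _ hp hd (hall _ hp (by omega))

/-- The order of the stabiliser of a small set involves only small primes. -/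
theorem prime_setStab {A : Finset α} {p k : ℕ} (hp : p.Prime) (h1 : A.card ≤ k) (h2 : Fintype.card α - A.card ≤ k)
    (hd : p ∣ Nat.card (setStab A)) : p ≤ k := by
  rw [card_setStab] at hd
  rcases hp.dvd_mul.1 hd with h | h
  · exact ((Nat.Prime.dvd_factorial hp).1 h).trans h1
  · exact ((Nat.Prime.dvd_factorial hp).1 h).trans h2

theorem prime_splitStab {A : Finset α} {p k : ℕ} (hp : p.Prime) (h2k : 2 ≤ k) (h1 : A.card ≤ k)
    (h2 : Fintype.card α - A.card ≤ k) (hd : p ∣ Nat.card (splitStab A)) : p ≤ k := by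
  rcases hp.eq_two_or_odd' with rfl | hodd
  · exact h2k
  haveI := Fact.mk hp
  obtain ⟨g, hg⟩ := exists_prime_orderOf_dvd_card' p hd
  have hmem : (g : Perm α) ^ 2 ∈ setStab A := by
    rcases g.2 with h | h
    · exact (setStab A).pow_mem h 2
    · intro y
      rw [pow_two, Perm.mul_apply, h, h, not_not]
  obtain ⟨j, hj⟩ := hodd
  have hg' : orderOf (g : Perm α) = p := by rw [Subgroup.orderOf_coe, hg]
  have hmem' : (g : Perm α) ∈ setStab A := by
    have e : ((g : Perm α) ^ 2) ^ (j + 1) = g := by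
      rw [← pow_mul, show 2 * (j + 1) = p + 1 by omega, pow_succ, ← hg', pow_orderOf_eq_one, one_mul]
    exact e ▸ (setStab A).pow_mem hmem (j + 1)
  refine prime_setStab hp h1 h2 ?_
  rw [← hg']
  exact Subgroup.orderOf_dvd_natCard _ hmem'

end General

/-- The three families. -/
def Shape (π : Set ℕ) {α : Type} [Fintype α] [DecidableEq α] (G H : Subgroup (Perm α)) : Prop :=
  (ClsP π (Fintype.card α) ∧ ∃ x, H = G ⊓ setStab {x}) ∨
    (Fintype.card α = 7 ∧ P23 π 7 ∧ ∃ A : Finset α, A.card = 3 ∧ H = G ⊓ setStab A) ∨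
    (Fintype.card α = 8 ∧ P23 π 8 ∧ ∃ A : Finset α, A.card = 4 ∧ H = G ⊓ splitStab A)

theorem classify (π : Set ℕ) : ∀ (n : ℕ) (α : Type) [Fintype α] [DecidableEq α], Fintype.card α = n →
    ∀ G H : Subgroup (Perm α), alternatingGroup α ≤ G → Cfsg.IsPiHallOf π H G → Two π n → ¬ AllIn π n → Shape π G H := by
  classical
  intro n
  induction n using Nat.strong_induction_on with
  | _ n IH =>
  intro α _ _ hn G H hG hH hTwo hAll
  subst hn
  have hn5 : 5 ≤ Fintype.card α := by
    by_contra hlt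
    obtain ⟨r, s, hr, hs, hrs, hrπ, hsπ, hrn, hsn⟩ := hTwo
    refine hAll fun t ht htn => ?_
    have := hr.two_le
    have := hs.two_le
    have := ht.two_le
    have h4 : ∀ {u : ℕ}, u.Prime → u ≤ 4 → u = 2 ∨ u = 3 := fun {u} hu h => by
      have := hu.two_le
      interval_cases u <;> first | omega | exact absurd hu (by norm_num)
    rcases h4 ht (by omega) with rfl | rfl <;> rcases h4 hr (by omega) with rfl | rfl <;>
      rcases h4 hs (by omega) with rfl | rfl <;> first | exact hrπ | exact hsπ | exact absurd rfl hrs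
  have hnA : ¬ alternatingGroup α ≤ H := fun h => hAll (contra_of_alt (by omega) hH h)
  by_cases hfix : ∃ x, ∀ g ∈ H, g x = x
  · obtain ⟨x, hx⟩ := hfix
    have hle : H ≤ setStab {x} := fun g hg => mem_point.2 (hx g hg)
    have hdvd : Fintype.card α ∣ H.relIndex G := by
      have h1 := relIndex_setStab hG {x} (by omega)
      rw [Finset.card_singleton, Nat.choose_one_right] at h1
      rw [← h1]
      exact Dvd.intro_left _ (Subgroup.relIndex_mul_relIndex H _ G (le_inf hH.1 hle) inf_le_left)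
    have hnπ : ∀ r : ℕ, r.Prime → r ∣ Fintype.card α → r ∉ π := fun r hr hd hπ => hH.2.2 r hr hπ (hd.trans hdvd)
    have hle' : H ≤ setStab (({x} : Finset α)ᶜ) := by rwa [setStab_compl]
    have hH' := hall_restrict hH hle'
    have hcard : Fintype.card {y // y ∈ ({x} : Finset α)ᶜ} = Fintype.card α - 1 := by
      simp [Finset.card_compl]
    have hTwo' : Two π (Fintype.card α - 1) := by
      obtain ⟨r, s, hr, hs, hrs, hrπ, hsπ, hrn, hsn⟩ := hTwo
      have key : ∀ u : ℕ, u.Prime → u ∈ π → u ≤ Fintype.card α → u ≤ Fintype.card α - 1 := fun u hu huπ hun => by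
        rcases eq_or_lt_of_le hun with e | e
        · exact absurd huπ (hnπ u hu (dvd_of_eq e))
        · omega
      exact ⟨r, s, hr, hs, hrs, hrπ, hsπ, key r hr hrπ hrn, key s hs hsπ hsn⟩
    by_cases hAll' : AllIn π (Fintype.card α - 1)
    · have hP : ClsP π (Fintype.card α) := ⟨prime_of_mem (by omega) hnπ hAll', fun r hr hrn => ⟨fun hπ => by
        rcases eq_or_lt_of_le hrn with e | e
        · exact absurd hπ (hnπ r hr (dvd_of_eq e))
        · exact e, fun h => hAll' r hr (by omega)⟩⟩
      refine .inl ⟨hP, x, hall_eq hH (le_inf hH.1 hle) inf_le_left fun p hp hd => hAll' p hp ?_⟩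
      exact prime_setStab hp (A := {x}) (by simp; omega) (by simp) (hd.trans (Subgroup.card_dvd_of_le inf_le_right))
    · exfalso
      rcases IH _ (by omega) _ hcard _ _ (alt_le_comap hG _) hH' hTwo' hAll' with ⟨hq, -⟩ | ⟨h7, h23, -⟩ | ⟨h8, h23, -⟩
      · rw [hcard] at hq
        obtain ⟨hq1, hq2⟩ := hq
        obtain ⟨t, ht⟩ := hq1.odd_of_ne_two (by omega)
        exact hnπ 2 Nat.prime_two ⟨t + 1, by omega⟩ ((hq2 2 Nat.prime_two (by omega)).2 (by omega))
      · rw [hcard] at h7
        exact hnπ 2 Nat.prime_two ⟨4, by omega⟩ ((h23 2 Nat.prime_two (by omega)).2 (.inl rfl))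
      · rw [hcard] at h8
        exact hnπ 3 Nat.prime_three ⟨3, by omega⟩ ((h23 3 Nat.prime_three (by omega)).2 (.inr rfl))
  push Not at hfix
  by_cases hT : IsPretransitive H α
  · -- transitive
    obtain ⟨x⟩ : Nonempty α := Fintype.card_pos_iff.1 (by omega)
    obtain ⟨hc, hidx, hH', hc'⟩ := point_data hG (by omega) hH hT x
    have hcard : Fintype.card {y // y ∈ ({x} : Finset α)ᶜ} = Fintype.card α - 1 := by
      simp [Finset.card_compl]
    have hnπ : ∀ r : ℕ, r.Prime → r ∣ Fintype.card α → r ∈ π := fun r hr hd => hH.2.1 r hr (hd.trans ⟨_, hc⟩)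
    have hAll' : ¬ AllIn π (Fintype.card α - 1) := fun h => hAll fun r hr hrn => by
      rcases eq_or_lt_of_le hrn with e | e
      · exact hnπ r hr (dvd_of_eq e)
      · exact h r hr (by omega)
    have hrel0 : H.relIndex G ≠ 0 := Subgroup.FiniteIndex.index_ne_zero
    by_cases hTwo' : Two π (Fintype.card α - 1)
    · rcases IH _ (by omega) _ hcard _ _ (alt_le_comap hG _) hH' hTwo' hAll' with ⟨hq, y, hy⟩ | ⟨h7, h23, A, hA, hAe⟩ |
        ⟨h8, h23, A, hA, hAe⟩
      · exfalso
        have hi : H.relIndex G = Fintype.card α - 1 := by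
          rw [← hidx, hy, relIndex_setStab (alt_le_comap hG _) {y} (by omega), Finset.card_singleton, Nat.choose_one_right, hcard]
        exact hnA (alt_le_of_index_lt hG hn5 (by omega) hrel0)
      · rw [hcard] at h7
        refine .inr (.inr ⟨by omega, fun r hr hrn => h23 r hr ?_, ?_⟩)
        · rcases eq_or_lt_of_le hrn with e | e
          · exact absurd (e ▸ hr) (by norm_num)
          · omega
        obtain ⟨A', hA'⟩ : ∃ A', A' = A.map (Function.Embedding.subtype _) := ⟨_, rfl⟩
        have hxA : x ∉ A' := by simp [hA']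
        obtain ⟨h8, B, hB, hHB⟩ := block_case hxA (.inl ⟨by omega, by rw [hA', Finset.card_map, hA]⟩) hnA fun g hg hgx hgA => by
          obtain ⟨f, rfl⟩ := exists_lift (A := ({x} : Finset α)ᶜ) (g := g) fun z hz => by
            simp only [Finset.mem_compl, Finset.mem_singleton, not_not] at hz
            rw [hz, hgx]
          have hf : f ∈ H.comap (ofSubtype : Perm {y // y ∈ ({x} : Finset α)ᶜ} →* Perm α) := by
            rw [hAe]
            refine ⟨hG hg, fun z => ?_⟩
            have h1 := hgA z.1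
            rw [ofSubtype_apply_of_mem f z.2, Subtype.coe_eta, hA'] at h1
            simpa [Subtype.coe_inj] using ((Finset.mem_map' _).symm.trans (h1.trans (Finset.mem_map' _)))
          exact hf
        refine ⟨B, hB, hall_eq hH (le_inf hH.1 hHB) inf_le_left fun p hp hd => ?_⟩
        have hp4 := prime_splitStab hp (k := 4) (by omega) (by omega) (by omega) (hd.trans (Subgroup.card_dvd_of_le inf_le_right))
        refine (h23 p hp (by omega)).2 ?_
        have := hp.two_le
        interval_cases p <;> first | omega | exact absurd hp (by norm_num)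
      · exfalso
        rw [hcard] at h8
        obtain ⟨A', hA'⟩ : ∃ A', A' = A.map (Function.Embedding.subtype _) := ⟨_, rfl⟩
        have hxA : x ∉ A' := by simp [hA']
        obtain ⟨h8', -⟩ := block_case hxA (.inr ⟨by omega, by rw [hA', Finset.card_map, hA]⟩) hnA fun g hg hgx hgA => by
          obtain ⟨f, rfl⟩ := exists_lift (A := ({x} : Finset α)ᶜ) (g := g) fun z hz => by
            simp only [Finset.mem_compl, Finset.mem_singleton, not_not] at hz
            rw [hz, hgx]
          have hf : f ∈ H.comap (ofSubtype : Perm {y // y ∈ ({x} : Finset α)ᶜ} →* Perm α) := by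
            rw [hAe]
            refine ⟨hG hg, .inl fun z => ?_⟩
            have h1 := hgA z.1
            rw [ofSubtype_apply_of_mem f z.2, Subtype.coe_eta, hA'] at h1
            simpa [Subtype.coe_inj] using ((Finset.mem_map' _).symm.trans (h1.trans (Finset.mem_map' _)))
          exact hf
        omega
    exfalso
    obtain ⟨r, s, hr, hs, hrs, hrπ, hsπ, hrn, hsn⟩ := hTwo
    obtain ⟨p, hp, hpπ, hpn, hnp, honly⟩ : ∃ p : ℕ, p.Prime ∧ p ∈ π ∧ p < Fintype.card α ∧ (Fintype.card α).Prime ∧
        ∀ t : ℕ, t.Prime → t ∈ π → t < Fintype.card α → t = p := by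
      have key : ∀ u v : ℕ, u.Prime → v.Prime → u ∈ π → v ∈ π → u < Fintype.card α → v < Fintype.card α → u = v :=
        fun u v hu hv huπ hvπ hun hvn => by
          by_contra hne
          exact hTwo' ⟨u, v, hu, hv, hne, huπ, hvπ, by omega, by omega⟩
      rcases eq_or_lt_of_le hrn with e | e
      · exact ⟨s, hs, hsπ, lt_of_le_of_ne hsn (fun e' => hrs (e.trans e'.symm)), e ▸ hr, fun t ht htπ htn =>
          key t s ht hs htπ hsπ htn (lt_of_le_of_ne hsn (fun e' => hrs (e.trans e'.symm)))⟩
      · rcases eq_or_lt_of_le hsn with e' | e'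
        · exact ⟨r, hr, hrπ, e, e' ▸ hs, fun t ht htπ htn => key t r ht hr htπ hrπ htn e⟩
        · exact absurd (key r s hr hs hrπ hsπ e e') hrs
    obtain ⟨a, ha⟩ : ∃ a, Nat.card (H ⊓ setStab {x} : Subgroup (Perm α)) = p ^ a := by
      refine ⟨(Nat.card (H ⊓ setStab {x} : Subgroup (Perm α))).factorization p, Nat.eq_of_factorization_eq Nat.card_pos.ne'
        (pow_ne_zero _ hp.ne_zero) fun t => ?_⟩
      rw [hp.factorization_pow, Finsupp.single_apply]
      split_ifs with h
      · rw [h]
      · by_contra hne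
        have ht : t.Prime := by
          by_contra h'
          exact hne (Nat.factorization_eq_zero_of_not_prime _ h')
        have htd := Nat.dvd_of_factorization_pos hne
        have htπ := hH.2.1 t ht (htd.trans (Subgroup.card_dvd_of_le inf_le_left))
        refine h (honly t ht htπ ?_).symm
        have h1 : t ∣ (Fintype.card α - 1).factorial := by
          have h2 := htd.trans (Subgroup.card_dvd_of_le (inf_le_right : H ⊓ setStab {x} ≤ setStab {x}))
          rwa [card_setStab, Finset.card_singleton, Nat.factorial_one, one_mul] at h2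
        have := (Nat.Prime.dvd_factorial ht).1 h1
        omega
    haveI : Group.IsSolvable H := Characters.isSolvable_of_card_eq_pow_mul_pow hp hnp (a := a) (b := 1)
      (by rw [hc, ha, pow_one, mul_comm])
    have hdiv : p ^ a ∣ Fintype.card α - 1 := by
      rw [← ha]
      refine dvd_trans (dvd_of_eq ?_) (card_stab_dvd H hnp x)
      have hstab : (H ⊓ setStab {x}).subgroupOf H = stabilizer H x := by
        ext g
        simp [Subgroup.mem_subgroupOf, mem_point, mem_stabilizer_iff]
        rfl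
      rw [← hstab, Nat.card_congr (Subgroup.subgroupOfEquivOfLe inf_le_left).toEquiv]
    obtain ⟨n', hn'⟩ : ∃ n', Fintype.card α = n' + 1 := ⟨Fintype.card α - 1, by omega⟩
    haveI : Nontrivial α := Fintype.one_lt_card_iff_nontrivial.1 (by omega)
    obtain ⟨hbig, hGd⟩ := card_le_of_big hG
    have hcG := card_rel hH.1
    rw [hc, ha] at hcG
    have hpn' : ¬ p ∣ Fintype.card α := fun h => by
      have := (Nat.prime_dvd_prime_iff_eq hp hnp).1 h; omega
    have hnp_rel : ¬ p ∣ H.relIndex G := hH.2.2 p hp hpπ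
    have hnodd : Odd (Fintype.card α) := hnp.odd_of_ne_two (by omega)
    have hfacd : ∀ e, p ^ e ∣ Nat.card G → e ≤ a := fun e he => by
      rw [← hcG] at he
      have h1 : p ^ e ∣ p ^ a * (Fintype.card α * H.relIndex G) := by
        refine he.trans (dvd_of_eq ?_); ring
      have hco : Nat.Coprime (p ^ e) (Fintype.card α * H.relIndex G) :=
        (Nat.Coprime.mul_right (hp.coprime_iff_not_dvd.2 hpn') (hp.coprime_iff_not_dvd.2 hnp_rel)).pow_left e
      exact (Nat.pow_dvd_pow_iff_le_right hp.one_lt).1 (hco.dvd_of_dvd_mul_right h1)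
    have h2G : (Fintype.card α).factorial ∣ 2 * Nat.card G := by
      rcases eq_or_eq_of_alt_le hG with rfl | rfl
      · have h2A := two_mul_card_alternatingGroup (α := α)
        rw [Fintype.card_perm, ← Nat.card_eq_fintype_card (α := alternatingGroup α)] at h2A
        rw [h2A]
      · rw [Subgroup.card_top, Nat.card_perm, Nat.card_eq_fintype_card]; exact dvd_mul_left _ _
    have hfact : (Fintype.card α).factorial = Fintype.card α * ((Fintype.card α - 1) * (Fintype.card α - 2).factorial) := by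
      rw [hn', Nat.factorial_succ]
      congr 1
      rw [show n' + 1 - 1 = n' by omega, show n' + 1 - 2 = n' - 1 by omega, Nat.mul_factorial_pred (by omega)]
    rcases hp.eq_two_or_odd' with rfl | hodd
    · by_cases h7 : 7 ≤ Fintype.card α
      · have h4 : 2 ^ 2 ∣ (Fintype.card α - 2).factorial :=
          (show 2 ^ 2 ∣ (4 : ℕ).factorial by decide).trans (Nat.factorial_dvd_factorial (by omega))
        have h1 : 2 ^ (a + 2) ∣ (Fintype.card α).factorial := by
          rw [hfact, pow_add]; exact dvd_mul_of_dvd_right (Nat.mul_dvd_mul hdiv h4) _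
        have h2 : 2 ^ (a + 1) ∣ Nat.card G := by
          have := h1.trans h2G
          rw [show a + 2 = a + 1 + 1 by ring, pow_succ, mul_comm] at this
          exact Nat.dvd_of_mul_dvd_mul_left two_pos this
        have := hfacd _ h2
        omega
      · have h5 : Fintype.card α = 5 := by
          obtain ⟨t, ht⟩ := hnodd; omega
        rw [h5] at hdiv hcG hbig hGd
        have ha2 : a ≤ 2 := (Nat.pow_dvd_pow_iff_le_right (x := 2) (by omega)).1 (by simpa using hdiv)
        have h4G : 2 ^ 2 ∣ Nat.card G := by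
          have := h2G
          rw [h5, show (5 : ℕ).factorial = 2 * (2 ^ 2 * 15) by decide] at this
          exact (Dvd.intro 15 rfl).trans (Nat.dvd_of_mul_dvd_mul_left two_pos this)
        have := hfacd _ h4G
        obtain rfl : a = 2 := by omega
        have hle := Nat.le_of_dvd (Nat.factorial_pos _) hGd
        rw [show (5 : ℕ).factorial = 120 by decide] at hle hbig
        norm_num at hcG
        rw [← Nat.card_eq_fintype_card] at hcG
        have hlt : H.relIndex G ≤ 6 := by omega
        have hne6 : H.relIndex G ≠ 6 ∧ ¬ 2 ∣ H.relIndex G := ⟨fun h => hnp_rel (h ▸ ⟨3, rfl⟩), hnp_rel⟩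
        have hne5 : H.relIndex G ≠ 5 := fun h => hH.2.2 5 (by norm_num) (hnπ 5 (by norm_num) (h5 ▸ dvd_rfl)) (h ▸ dvd_rfl)
        exact hnA (alt_le_of_index_lt hG hn5 (by omega) hrel0)
    · have hp2 : p ≠ 2 := fun h => by subst h; exact absurd hodd (by decide)
      have hpm : p ≤ Fintype.card α - 2 := by
        obtain ⟨t, ht⟩ := hnodd
        obtain ⟨u, hu⟩ := hodd
        omega
      have h1 : p ^ (a + 1) ∣ (Fintype.card α).factorial := by
        rw [hfact, pow_succ]
        exact dvd_mul_of_dvd_right (Nat.mul_dvd_mul hdiv ((Nat.Prime.dvd_factorial hp).2 hpm)) _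
      have h2 : p ^ (a + 1) ∣ Nat.card G :=
        ((Nat.coprime_primes hp Nat.prime_two).2 hp2 |>.pow_left _).dvd_of_dvd_mul_left (h1.trans h2G)
      have := hfacd _ h2
      omega
  -- intransitive
  obtain ⟨A, hA2, hAm, hle⟩ : ∃ A : Finset α, 2 ≤ Fintype.card α - A.card ∧ Fintype.card α - A.card ≤ A.card ∧ H ≤ setStab A := by
    obtain ⟨a, b, hab⟩ : ∃ a b : α, ∀ g : H, g • a ≠ b := by
      by_contra! hcon
      exact hT ⟨fun a b => hcon a b⟩
    obtain ⟨Δ, hΔ⟩ : ∃ Δ : Finset α, Δ = Finset.univ.filter (fun y => y ∈ orbit H a) := ⟨_, rfl⟩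
    have hmem : ∀ y, y ∈ Δ ↔ y ∈ orbit H a := fun y => by simp [hΔ]
    have hinv : H ≤ setStab Δ := fun g hg y => by
      rw [hmem, hmem]
      exact ⟨fun h => (orbit_eq_iff.2 h) ▸ (show y ∈ orbit H (g y) from ⟨⟨g, hg⟩⁻¹, g.symm_apply_apply y⟩), fun h => (orbit_eq_iff.2 h) ▸ mem_orbit y (⟨g, hg⟩ : H)⟩
    have haΔ : a ∈ Δ := (hmem a).2 (mem_orbit_self a)
    have hbΔ : b ∈ Δᶜ := Finset.mem_compl.2 fun h => by
      obtain ⟨g, hg⟩ := (hmem b).1 h
      exact hab g hg
    have big : ∀ S : Finset α, H ≤ setStab S → S.Nonempty → 2 ≤ S.card := by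
      intro S hS ⟨z, hz⟩
      obtain ⟨g, hg, hgz⟩ := hfix z
      have hz' : g z ∈ S := (hS hg z).2 hz
      exact Finset.one_lt_card.2 ⟨z, hz, g z, hz', Ne.symm hgz⟩
    have h1 := big Δ hinv ⟨a, haΔ⟩
    have h2 := big Δᶜ (by rwa [setStab_compl]) ⟨b, hbΔ⟩
    have hsum := Finset.card_add_card_compl Δ
    rcases Nat.le_total Δᶜ.card Δ.card with h | h
    · exact ⟨Δ, by omega, by omega, hinv⟩
    · exact ⟨Δᶜ, by omega, by omega, by rwa [setStab_compl]⟩
  obtain ⟨k, hk⟩ : ∃ k, k = Fintype.card α - A.card := ⟨_, rfl⟩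
  have hAn := Finset.card_le_univ A
  have hCdvd : (Fintype.card α).choose A.card ∣ H.relIndex G := by
    rw [← relIndex_setStab hG A (by omega)]
    exact Dvd.intro_left _ (Subgroup.relIndex_mul_relIndex H _ G (le_inf hH.1 hle) inf_le_left)
  have hCπ : ∀ r : ℕ, r.Prime → r ∈ π → ¬ r ∣ (A.card + k).choose k := fun r hr hπ hd => hH.2.2 r hr hπ
    (hd.trans (by rwa [show A.card + k = Fintype.card α by omega, hk, Nat.choose_symm hAn]))
  have hsmall : ∀ r : ℕ, r.Prime → r ∈ π → r ≤ Fintype.card α → r ≤ A.card := fun r hr hπ hrn => by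
    by_contra hgt
    refine hCπ r hr hπ ?_
    rw [show A.card + k = Fintype.card α by omega]
    exact hr.dvd_choose (by omega) (by omega) hrn
  have hTwo' : Two π A.card := by
    obtain ⟨r, s, hr, hs, hrs, hrπ, hsπ, hrn, hsn⟩ := hTwo
    exact ⟨r, s, hr, hs, hrs, hrπ, hsπ, hsmall r hr hrπ hrn, hsmall s hs hsπ hsn⟩
  have hcard : Fintype.card {y // y ∈ A} = A.card := Fintype.card_coe A
  by_cases hAll' : AllIn π A.card
  · obtain ⟨hk3, hA4⟩ := binom_clean (k := k) (m := A.card) (fun p hp hpm => hCπ p hp (hAll' p hp hpm)) (by omega) (by omega)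
    refine .inr (.inl ⟨by omega, fun r hr hrn => ⟨fun hπ => ?_, ?_⟩, Aᶜ, by rw [Finset.card_compl]; omega, ?_⟩)
    · have := hsmall r hr hπ (by omega)
      have := hr.two_le
      interval_cases hr' : r <;> first | omega | exact absurd hr (by norm_num)
    · rintro (rfl | rfl) <;> exact hAll' _ (by norm_num) (by omega)
    · rw [setStab_compl]
      refine hall_eq hH (le_inf hH.1 hle) inf_le_left fun p hp hd => hAll' p hp ?_
      exact prime_setStab hp le_rfl (by omega) (hd.trans (Subgroup.card_dvd_of_le inf_le_right))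
  exfalso
  rcases IH _ (by omega) _ hcard _ _ (alt_le_comap hG _) (hall_restrict hH hle) hTwo' hAll' with ⟨hq, z, hz⟩ | ⟨h7, h23, -⟩ | ⟨h8, h23, -⟩
  · rw [hcard] at hq
    have hA5 : 5 ≤ A.card := by
      obtain ⟨r, s, hr, hs, hrs, hrπ, hsπ, hr', hs'⟩ := hTwo'
      have hr2 := (hq.2 r hr hr').1 hrπ
      have hs2 := (hq.2 s hs hs').1 hsπ
      have := hr.two_le
      have := hs.two_le
      by_contra hlt
      interval_cases hA' : A.card
      all_goals first | omega | exact absurd hq.1 (by norm_num)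
    obtain ⟨g, hg, hgz⟩ := hfix z.1
    have hw : g z.1 ∈ A := (hle hg z.1).2 z.2
    obtain ⟨t, ht, htz, htw⟩ := exists_move (α := {y // y ∈ A}) (z := z) (w := ⟨g z.1, hw⟩) (by rw [hcard]; omega)
      fun e => hgz (congrArg Subtype.val e)
    have htH : t ∈ H.comap (ofSubtype : Perm {y // y ∈ A} →* Perm α) := by
      rw [hz]
      exact ⟨alt_le_comap hG A ht, mem_point.2 htz⟩
    obtain ⟨f, hf⟩ := exists_lift (A := A) (g := g⁻¹ * ofSubtype t * g) fun y hy => by
      have : g y ∉ A := fun h => hy ((hle hg y).1 h)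
      rw [Perm.mul_apply, Perm.mul_apply, ofSubtype_apply_of_not_mem t this]
      simp
    have hfH : f ∈ H.comap (ofSubtype : Perm {y // y ∈ A} →* Perm α) := by
      rw [Subgroup.mem_comap, hf]
      exact H.mul_mem (H.mul_mem (H.inv_mem hg) htH) hg
    rw [hz] at hfH
    have h1 := congrArg Subtype.val (mem_point.1 hfH.2)
    rw [← ofSubtype_apply_of_mem f z.2, hf, Perm.mul_apply, Perm.mul_apply, Perm.inv_eq_iff_eq] at h1
    refine htw (Subtype.ext ?_)
    rw [← ofSubtype_apply_of_mem t hw]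
    exact h1
  all_goals
    have hkle : k ≤ A.card := by omega
    rw [hcard] at *
    have h2π := (h23 2 Nat.prime_two (by omega)).2 (.inl rfl)
    have h3π := (h23 3 Nat.prime_three (by omega)).2 (.inr rfl)
    have hb : ∀ k' ∈ Finset.Icc 2 8, 2 ∣ (7 + k').choose k' ∨ 3 ∣ (7 + k').choose k' := by decide
    have hb' : ∀ k' ∈ Finset.Icc 2 8, 2 ∣ (8 + k').choose k' ∨ 3 ∣ (8 + k').choose k' := by decide
  · rw [h7] at hCπ
    rcases hb k (Finset.mem_Icc.2 ⟨by omega, by omega⟩) with h | h
    exacts [hCπ 2 Nat.prime_two h2π h, hCπ 3 Nat.prime_three h3π h]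
  · rw [h8] at hCπ
    rcases hb' k (Finset.mem_Icc.2 ⟨by omega, by omega⟩) with h | h
    exacts [hCπ 2 Nat.prime_two h2π h, hCπ 3 Nat.prime_three h3π h]

end Cfsg.Agent.Lib.HallSym
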