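import Mathlib
import Cfsg.Agent.Lib.HallSym.Classify

/-!
Existence and conjugacy of the Hall subgroups of the symmetric and alternating groups.
-/

set_option autoImplicit false

namespace Cfsg.Agent.Lib.HallSym

open Equiv Equiv.Perm MulAction

/-- The arithmetic condition. -/
def Cond (π : Set ℕ) (n : ℕ) : Prop := ClsP π n ∨ (n = 7 ∧ P23 π 7) ∨ (n = 8 ∧ P23 π 8)

theorem five_le {π : Set ℕ} {n : ℕ} (hTwo : Two π n) (hAll : ¬ AllIn π n) : 5 ≤ n := by
  by_contra hlt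
  obtain ⟨r, s, hr, hs, hrs, hrπ, hsπ, hrn, hsn⟩ := hTwo
  refine hAll fun t ht htn => ?_
  have h4 : ∀ {u : ℕ}, u.Prime → u ≤ 4 → u = 2 ∨ u = 3 := fun {u} hu h => by
    have := hu.two_le
    interval_cases u <;> first | omega | exact absurd hu (by norm_num)
  rcases h4 ht (by omega) with rfl | rfl <;> rcases h4 hr (by omega) with rfl | rfl <;>
    rcases h4 hs (by omega) with rfl | rfl <;> first | exact hrπ | exact hsπ | exact absurd rfl hrs

theorem p23_mem {π : Set ℕ} {n p : ℕ} (h : P23 π n) (hn : 4 ≤ n) (hp : p.Prime) (hp4 : p ≤ 4) : p ∈ π := by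
  refine (h p hp (hp4.trans hn)).2 ?_
  have := hp.two_le
  interval_cases p <;> first | omega | exact absurd hp (by norm_num)

section General

variable {α : Type} [Fintype α] [DecidableEq α]

theorem exists_swapper {A : Finset α} (h2 : 2 ≤ A.card) (hc : Fintype.card α = 2 * A.card) :
    ∃ g ∈ alternatingGroup α, ∀ x, g x ∈ A ↔ x ∉ A := by
  have e : {x // x ∈ A} ≃ {x // x ∉ A} := Fintype.equivOfCardEq (by
    simp [Fintype.card_subtype_compl]; omega)
  obtain ⟨g, hg⟩ : ∃ g, g = e.extendSubtype := ⟨_, rfl⟩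
  have hs : ∀ x, g x ∈ A ↔ x ∉ A := fun x => by
    by_cases hx : x ∈ A
    · exact iff_of_false (hg ▸ e.extendSubtype_mem x hx) (not_not.2 hx)
    · exact iff_of_true (not_not.1 (hg ▸ e.extendSubtype_not_mem x hx)) hx
  obtain ⟨a, ha, b, hb, hab⟩ := Finset.one_lt_card.1 (show 1 < A.card by omega)
  rcases Int.units_eq_one_or (sign g) with h | h
  · exact ⟨g, mem_alternatingGroup.2 h, hs⟩
  · refine ⟨g * swap a b, mem_alternatingGroup.2 (by rw [map_mul, h, sign_swap hab]; rfl), fun x => ?_⟩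
    rw [Perm.mul_apply, hs, swap_mem_setStab (iff_of_true ha hb) x]

theorem hall_of_shape {π : Set ℕ} {G H : Subgroup (Perm α)} (hG : alternatingGroup α ≤ G) (hn : 5 ≤ Fintype.card α)
    (h : Shape π G H) : Cfsg.IsPiHallOf π H G := by
  rcases h with ⟨⟨hnp, hP⟩, x, rfl⟩ | ⟨h7, hP, A, hA, rfl⟩ | ⟨h8, hP, A, hA, rfl⟩
  · refine ⟨inf_le_left, fun p hp hd => ?_, fun p hp hπ hd => ?_⟩
    · have := prime_setStab hp (A := {x}) (k := Fintype.card α - 1) (by simp; omega) (by simp)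
        (hd.trans (Subgroup.card_dvd_of_le inf_le_right))
      exact (hP p hp (by omega)).2 (by omega)
    · rw [relIndex_setStab hG {x} (by omega), Finset.card_singleton, Nat.choose_one_right] at hd
      obtain rfl := (Nat.prime_dvd_prime_iff_eq hp hnp).1 hd
      exact lt_irrefl _ ((hP _ hp le_rfl).1 hπ)
  · refine ⟨inf_le_left, fun p hp hd => ?_, fun p hp hπ hd => ?_⟩
    · exact p23_mem hP (by omega) hp (prime_setStab hp (A := A) (by omega) (by omega)
        (hd.trans (Subgroup.card_dvd_of_le inf_le_right)))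
    · rw [relIndex_setStab hG A (by omega), hA, h7] at hd
      have h35 : p ∣ 35 := by rwa [show Nat.choose 7 3 = 35 by decide] at hd
      have h57 : p = 5 ∨ p = 7 := by
        rcases hp.dvd_mul.1 (show p ∣ 5 * 7 by simpa using h35) with h | h
        · exact .inl ((Nat.prime_dvd_prime_iff_eq hp (by norm_num)).1 h)
        · exact .inr ((Nat.prime_dvd_prime_iff_eq hp (by norm_num)).1 h)
      have := (hP p hp (by omega)).1 hπ
      omega
  · refine ⟨inf_le_left, fun p hp hd => ?_, fun p hp hπ hd => ?_⟩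
    · exact p23_mem hP (by omega) hp (prime_splitStab hp (k := 4) (A := A) (by omega) (by omega) (by omega)
        (hd.trans (Subgroup.card_dvd_of_le inf_le_right)))
    · have hi : (G ⊓ setStab A).relIndex (G ⊓ splitStab A) = 2 := by
        obtain ⟨g, hg, hs⟩ := exists_swapper (A := A) (by omega) (by omega)
        refine Subgroup.index_eq_two_iff.2 ⟨⟨g, hG hg, .inr hs⟩, fun b => ?_⟩
        obtain ⟨a, ha⟩ := Finset.card_pos.1 (show 0 < A.card by omega)
        simp only [Subgroup.mem_subgroupOf, Subgroup.coe_mul]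
        rcases b.2.2 with hb | hb
        · refine .inr ⟨⟨b.2.1, hb⟩, fun h => ?_⟩
          have := h.2 a
          rw [Perm.mul_apply, hb, hs] at this
          exact this.2 ha ha
        · refine .inl ⟨⟨G.mul_mem b.2.1 (hG hg), fun y => by rw [Perm.mul_apply, hb, hs, not_not]⟩, fun h => ?_⟩
          exact ((hb a).1 ((h.2 a).2 ha)) ha
      have h1 := Subgroup.relIndex_mul_relIndex (G ⊓ setStab A) (G ⊓ splitStab A) G
        (inf_le_inf_left G (setStab_le_splitStab A)) inf_le_left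
      rw [hi, relIndex_setStab hG A (by omega), hA, h8, show Nat.choose 8 4 = 70 by decide] at h1
      have h35 : (G ⊓ splitStab A).relIndex G = 35 := by omega
      rw [h35] at hd
      have h57 : p = 5 ∨ p = 7 := by
        rcases hp.dvd_mul.1 (show p ∣ 5 * 7 by simpa using hd) with h | h
        · exact .inl ((Nat.prime_dvd_prime_iff_eq hp (by norm_num)).1 h)
        · exact .inr ((Nat.prime_dvd_prime_iff_eq hp (by norm_num)).1 h)
      have := (hP p hp (by omega)).1 hπ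
      omega

theorem exists_even_map (hn : 4 ≤ Fintype.card α) {A B : Finset α} (h : A.card = B.card) :
    ∃ σ ∈ alternatingGroup α, A.image σ = B := by
  have e : {x // x ∈ A} ≃ {x // x ∈ B} := Fintype.equivOfCardEq (by simp [h])
  obtain ⟨σ, hσ⟩ : ∃ σ, σ = e.extendSubtype := ⟨_, rfl⟩
  have hAB : A.image σ = B := Finset.eq_of_subset_of_card_le (fun y hy => by
    obtain ⟨x, hx, rfl⟩ := Finset.mem_image.1 hy
    exact hσ ▸ e.extendSubtype_mem x hx) (by rw [Finset.card_image_of_injective _ σ.injective, h])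
  rcases Int.units_eq_one_or (sign σ) with hs | hs
  · exact ⟨σ, mem_alternatingGroup.2 hs, hAB⟩
  obtain ⟨a, b, hab, hiff⟩ : ∃ a b, a ≠ b ∧ (a ∈ A ↔ b ∈ A) := by
    have hsum := Finset.card_add_card_compl A
    rcases Nat.lt_or_ge 1 A.card with h1 | h1
    · obtain ⟨a, ha, b, hb, hab⟩ := Finset.one_lt_card.1 h1
      exact ⟨a, b, hab, iff_of_true ha hb⟩
    · obtain ⟨a, ha, b, hb, hab⟩ := Finset.one_lt_card.1 (show 1 < Aᶜ.card by omega)
      exact ⟨a, b, hab, iff_of_false (Finset.mem_compl.1 ha) (Finset.mem_compl.1 hb)⟩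
  refine ⟨σ * swap a b, mem_alternatingGroup.2 (by rw [map_mul, hs, sign_swap hab]; rfl), ?_⟩
  rw [← hAB]
  refine Finset.eq_of_subset_of_card_le (fun y hy => ?_) (by
    rw [Finset.card_image_of_injective _ σ.injective, Finset.card_image_of_injective _ (σ * swap a b).injective])
  obtain ⟨x, hx, rfl⟩ := Finset.mem_image.1 hy
  exact Finset.mem_image.2 ⟨_, (swap_mem_setStab hiff x).2 hx, rfl⟩

theorem mem_map_conj {K : Subgroup (Perm α)} {σ g : Perm α} :
    g ∈ K.map (MulAut.conj σ).toMonoidHom ↔ σ⁻¹ * g * σ ∈ K := by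
  rw [Subgroup.mem_map_equiv, MulAut.conj_symm_apply]

theorem map_conj_setStab {G : Subgroup (Perm α)} {σ : Perm α} (hσ : σ ∈ G) (A : Finset α) :
    (G ⊓ setStab A).map (MulAut.conj σ).toMonoidHom = G ⊓ setStab (A.image σ) := by
  ext g
  rw [mem_map_conj, Subgroup.mem_inf, Subgroup.mem_inf, G.mul_mem_cancel_right hσ,
    G.mul_mem_cancel_left (G.inv_mem hσ)]
  refine and_congr_right fun _ => ?_
  have hm : ∀ y, y ∈ A.image σ ↔ σ⁻¹ y ∈ A := fun y => by
    rw [Finset.mem_image]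
    exact ⟨fun ⟨x, hx, e⟩ => by rwa [← e, Perm.inv_def, σ.symm_apply_apply], fun h => ⟨_, h, σ.apply_symm_apply y⟩⟩
  simp only [mem_setStab, hm]
  exact ⟨fun h y => by simpa using h (σ⁻¹ y), fun h y => by simpa using h (σ y)⟩

theorem map_conj_splitStab {G : Subgroup (Perm α)} {σ : Perm α} (hσ : σ ∈ G) (A : Finset α) :
    (G ⊓ splitStab A).map (MulAut.conj σ).toMonoidHom = G ⊓ splitStab (A.image σ) := by
  ext g
  rw [mem_map_conj, Subgroup.mem_inf, Subgroup.mem_inf, G.mul_mem_cancel_right hσ,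
    G.mul_mem_cancel_left (G.inv_mem hσ)]
  refine and_congr_right fun _ => ?_
  have hm : ∀ y, y ∈ A.image σ ↔ σ⁻¹ y ∈ A := fun y => by
    rw [Finset.mem_image]
    exact ⟨fun ⟨x, hx, e⟩ => by rwa [← e, Perm.inv_def, σ.symm_apply_apply], fun h => ⟨_, h, σ.apply_symm_apply y⟩⟩
  simp only [mem_splitStab, hm]
  refine or_congr ⟨fun h y => by simpa using h (σ⁻¹ y), fun h y => by simpa using h (σ y)⟩
    ⟨fun h y => by simpa using h (σ⁻¹ y), fun h y => by simpa using h (σ y)⟩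

theorem conj_of_shape {π : Set ℕ} {G H K : Subgroup (Perm α)} (hG : alternatingGroup α ≤ G) (hn : 5 ≤ Fintype.card α)
    (hH : Shape π G H) (hK : Shape π G K) : ∃ σ ∈ G, K = H.map (MulAut.conj σ).toMonoidHom := by
  rcases hH with ⟨hP, x, rfl⟩ | ⟨h7, hP, A, hA, rfl⟩ | ⟨h8, hP, A, hA, rfl⟩ <;>
    rcases hK with ⟨hP', y, rfl⟩ | ⟨h7', hP', B, hB, rfl⟩ | ⟨h8', hP', B, hB, rfl⟩
  · obtain ⟨σ, hσ, he⟩ := exists_even_map (by omega) (A := {x}) (B := {y}) rfl
    exact ⟨σ, hG hσ, by rw [map_conj_setStab (hG hσ), he]⟩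
  · have h5 := (hP.2 5 (by norm_num) (by omega)).2 (by omega)
    have := (hP' 5 (by norm_num) (by norm_num)).1 h5
    omega
  · exact absurd (h8' ▸ hP.1) (by norm_num)
  · have h5 := (hP'.2 5 (by norm_num) (by omega)).2 (by omega)
    have := (hP 5 (by norm_num) (by norm_num)).1 h5
    omega
  · obtain ⟨σ, hσ, he⟩ := exists_even_map (by omega) (hA.trans hB.symm)
    exact ⟨σ, hG hσ, by rw [map_conj_setStab (hG hσ), he]⟩
  · omega
  · exact absurd (h8 ▸ hP'.1) (by norm_num)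
  · omega
  · obtain ⟨σ, hσ, he⟩ := exists_even_map (by omega) (hA.trans hB.symm)
    exact ⟨σ, hG hσ, by rw [map_conj_splitStab (hG hσ), he]⟩

theorem exists_iff {π : Set ℕ} {G : Subgroup (Perm α)} (hG : alternatingGroup α ≤ G) (hTwo : Two π (Fintype.card α))
    (hAll : ¬ AllIn π (Fintype.card α)) : (∃ H, Cfsg.IsPiHallOf π H G) ↔ Cond π (Fintype.card α) := by
  constructor
  · rintro ⟨H, hH⟩
    rcases classify π _ α rfl G H hG hH hTwo hAll with ⟨h, -⟩ | ⟨h, h', -⟩ | ⟨h, h', -⟩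
    exacts [.inl h, .inr (.inl ⟨h, h'⟩), .inr (.inr ⟨h, h'⟩)]
  · have h5 := five_le hTwo hAll
    rintro (h | ⟨h, h'⟩ | ⟨h, h'⟩)
    · obtain ⟨x⟩ : Nonempty α := Fintype.card_pos_iff.1 (by omega)
      exact ⟨_, hall_of_shape hG h5 (.inl ⟨h, x, rfl⟩)⟩
    · obtain ⟨A, -, hA⟩ := Finset.exists_subset_card_eq (s := (Finset.univ : Finset α)) (n := 3) (by rw [Finset.card_univ]; omega)
      exact ⟨_, hall_of_shape hG h5 (.inr (.inl ⟨h, h', A, hA, rfl⟩))⟩
    · obtain ⟨A, -, hA⟩ := Finset.exists_subset_card_eq (s := (Finset.univ : Finset α)) (n := 4) (by rw [Finset.card_univ]; omega)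
      exact ⟨_, hall_of_shape hG h5 (.inr (.inr ⟨h, h', A, hA, rfl⟩))⟩

theorem conj_hall {π : Set ℕ} {G H K : Subgroup (Perm α)} (hG : alternatingGroup α ≤ G) (hTwo : Two π (Fintype.card α))
    (hAll : ¬ AllIn π (Fintype.card α)) (hH : Cfsg.IsPiHallOf π H G) (hK : Cfsg.IsPiHallOf π K G) :
    ∃ σ ∈ G, K = H.map (MulAut.conj σ).toMonoidHom :=
  conj_of_shape hG (five_le hTwo hAll) (classify π _ α rfl G H hG hH hTwo hAll) (classify π _ α rfl G K hG hK hTwo hAll)

theorem easy_of_not {π : Set ℕ} {G : Subgroup (Perm α)} (h : ¬ (Two π (Fintype.card α) ∧ ¬ AllIn π (Fintype.card α))) :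
    Easy π G ∧ Easy π (Perm α) := by
  have hle : ∀ r : ℕ, r.Prime → r ∣ Nat.card (Perm α) → r ≤ Fintype.card α := fun r hr hd => by
    rw [Nat.card_perm, Nat.card_eq_fintype_card] at hd
    exact (Nat.Prime.dvd_factorial hr).1 hd
  have hle' : ∀ r : ℕ, r.Prime → r ∣ Nat.card G → r ≤ Fintype.card α := fun r hr hd =>
    hle r hr (hd.trans (Subgroup.card_subgroup_dvd_card G))
  by_cases hAll : AllIn π (Fintype.card α)
  · exact ⟨.inr fun r hr hd => hAll r hr (hle' r hr hd), .inr fun r hr hd => hAll r hr (hle r hr hd)⟩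
  · constructor <;> left <;> intro r s hr hs hrπ hsπ hrd hsd <;> by_contra hne
    · exact h ⟨⟨r, s, hr, hs, hne, hrπ, hsπ, hle' r hr hrd, hle' s hs hsd⟩, hAll⟩
    · exact h ⟨⟨r, s, hr, hs, hne, hrπ, hsπ, hle r hr hrd, hle s hs hsd⟩, hAll⟩

theorem map_conj_subtype {X : Subgroup (Perm α)} (H : Subgroup X) (g : X) :
    (H.map (MulAut.conj g).toMonoidHom).map X.subtype = (H.map X.subtype).map (MulAut.conj (g : Perm α)).toMonoidHom := by
  rw [Subgroup.map_map, Subgroup.map_map]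
  congr 1

end General

end Cfsg.Agent.Lib.HallSym

namespace Cfsg.Agent.Lib.HallSym

open Equiv

theorem perm_hard {π : Set ℕ} (n : ℕ) (hTwo : Two π n) (hAll : ¬ AllIn π n) :
    (Cfsg.IsEPiGroup π (Perm (Fin n)) ↔ Cond π n) ∧ (Cfsg.IsEPiGroup π (Perm (Fin n)) → Cfsg.IsCPiGroup π (Perm (Fin n))) := by
  rw [← Fintype.card_fin n] at hTwo hAll
  have h := exists_iff (G := (⊤ : Subgroup (Perm (Fin n)))) le_top hTwo hAll
  rw [Fintype.card_fin] at h
  refine ⟨Iff.trans ⟨fun ⟨H, hH⟩ => ⟨H, isPiHallOf_top.2 hH⟩, fun ⟨H, hH⟩ => ⟨H, isPiHallOf_top.1 hH⟩⟩ h,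
    fun hE => ⟨hE, fun H K hH hK => ?_⟩⟩
  obtain ⟨σ, -, hσ⟩ := conj_hall le_top hTwo hAll (isPiHallOf_top.2 hH) (isPiHallOf_top.2 hK)
  exact ⟨σ, hσ⟩

theorem alt_hard {π : Set ℕ} (n : ℕ) (hTwo : Two π n) (hAll : ¬ AllIn π n) :
    (Cfsg.IsEPiGroup π (alternatingGroup (Fin n)) ↔ Cond π n) ∧
      (Cfsg.IsEPiGroup π (alternatingGroup (Fin n)) → Cfsg.IsCPiGroup π (alternatingGroup (Fin n))) := by
  rw [← Fintype.card_fin n] at hTwo hAll
  have h := exists_iff (G := alternatingGroup (Fin n)) le_rfl hTwo hAll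
  rw [Fintype.card_fin] at h
  refine ⟨Iff.trans ⟨fun ⟨H, hH⟩ => ⟨_, isPiHall_iff.1 hH⟩, fun ⟨H, hH⟩ => ⟨H.subgroupOf _, ?_⟩⟩ h,
    fun hE => ⟨hE, fun H K hH hK => ?_⟩⟩
  · obtain ⟨σ, hσG, hσ⟩ := conj_hall le_rfl hTwo hAll (isPiHall_iff.1 hH) (isPiHall_iff.1 hK)
    exact ⟨⟨σ, hσG⟩, Subgroup.map_injective (alternatingGroup (Fin n)).subtype_injective (by rw [hσ, map_conj_subtype])⟩
  · rwa [isPiHall_iff, Subgroup.map_subgroupOf_eq_of_le hH.1]

end Cfsg.Agent.Lib.HallSym
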