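import Mathlib
import Cfsg.Agent.Lib.HallSym.Main

/-!
A π-subgroup of the alternating group lying in no conjugate of its Hall subgroup.
-/

set_option autoImplicit false

namespace Cfsg.Agent.Lib.HallSym

open Equiv Equiv.Perm

section Point

variable {α : Type} [Fintype α] [DecidableEq α]

/-- A set and its complement of size at least two: the even stabiliser fixes no point. -/
theorem stab_moves {A : Finset α} (h1 : 2 ≤ A.card) (h2 : 2 ≤ Fintype.card α - A.card) (z : α) :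
    ∃ g ∈ alternatingGroup α ⊓ setStab A, g z ≠ z := by
  obtain ⟨S, hS2, hT2, hS, hiff⟩ : ∃ S : Finset α, 2 ≤ S.card ∧ 2 ≤ Sᶜ.card ∧ z ∈ S ∧ setStab S = setStab A := by
    by_cases hz : z ∈ A
    · exact ⟨A, h1, by rw [Finset.card_compl]; exact h2, hz, rfl⟩
    · exact ⟨Aᶜ, by rw [Finset.card_compl]; exact h2, by rw [compl_compl]; exact h1, Finset.mem_compl.2 hz, setStab_compl A⟩
  obtain ⟨w, hw, hwz⟩ := Finset.exists_mem_ne (show 1 < S.card by omega) z
  obtain ⟨a, ha, b, hb, hab⟩ := Finset.one_lt_card.1 (show 1 < Sᶜ.card by omega)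
  rw [Finset.mem_compl] at ha hb
  refine ⟨swap z w * swap a b, ⟨?_, hiff ▸ Subgroup.mul_mem _ (swap_mem_setStab (iff_of_true hS hw))
    (swap_mem_setStab (iff_of_false ha hb))⟩, ?_⟩
  · exact mem_alternatingGroup.2 (by rw [map_mul, sign_swap hwz.symm, sign_swap hab]; rfl)
  · rw [Perm.mul_apply, swap_apply_of_ne_of_ne (fun e : z = a => ha (e ▸ hS)) (fun e : z = b => hb (e ▸ hS)),
      swap_apply_left]
    exact hwz

/-- The permutations permuting the fibres of a map. -/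
def fibreStab {m : ℕ} (q : α → Fin m) : Subgroup (Perm α) where
  carrier := {g | ∃ σ : Perm (Fin m), ∀ x, q (g x) = σ (q x)}
  one_mem' := ⟨1, fun _ => rfl⟩
  mul_mem' := fun {f g} ⟨s, hs⟩ ⟨t, ht⟩ => ⟨s * t, fun x => by
    rw [Perm.mul_apply, hs, ht]; rfl⟩
  inv_mem' := fun {f} ⟨s, hs⟩ => ⟨s⁻¹, fun x => by
    have h := hs (f⁻¹ x)
    rw [show f (f⁻¹ x) = x by simp] at h
    rw [h]; simp⟩

theorem fibreStab_prime {q : α → Fin 4}
    (hq : ∀ x y z, q y = q x → q z = q x → x ≠ y → y ≠ z → z = x) {p : ℕ} (hp : p.Prime)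
    (hd : p ∣ Nat.card (fibreStab q)) : p = 2 ∨ p = 3 := by
  haveI := Fact.mk hp
  obtain ⟨⟨g, σ, hσ⟩, hg⟩ := exists_prime_orderOf_dvd_card' p hd
  have hg' : orderOf g = p := (orderOf_injective (fibreStab q).subtype (fibreStab q).subtype_injective _).trans hg
  have hpow : ∀ (j : ℕ) x, q ((g ^ j) x) = (σ ^ j) (q x) := fun j => by
    induction j with
    | zero => intro x; rfl
    | succ j ih => intro x; rw [pow_succ', Perm.mul_apply, hσ, ih, ← Perm.mul_apply, ← pow_succ']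
  have h24 : σ ^ 24 = 1 := by
    rw [show 24 = Fintype.card (Perm (Fin 4)) by simp [Fintype.card_perm]; rfl]
    exact pow_card_eq_one
  have hfix : ∀ x, (g ^ 24) ((g ^ 24) x) = x := fun x => by
    have h1 : ∀ y, q ((g ^ 24) y) = q y := fun y => by rw [hpow, h24]; rfl
    by_cases hxy : (g ^ 24) x = x
    · rw [hxy, hxy]
    · exact hq x _ _ (h1 x) ((h1 _).trans (h1 x)) (Ne.symm hxy) fun e => hxy ((g ^ 24).injective e).symm
  have h48 : p ∣ 2 ^ 4 * 3 := by
    rw [← hg', orderOf_dvd_iff_pow_eq_one, show 2 ^ 4 * 3 = 24 + 24 by norm_num, pow_add]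
    exact Equiv.ext hfix
  rcases hp.dvd_mul.1 h48 with h | h
  · exact .inl ((Nat.prime_dvd_prime_iff_eq hp Nat.prime_two).1 (hp.dvd_of_dvd_pow h))
  · exact .inr ((Nat.prime_dvd_prime_iff_eq hp Nat.prime_three).1 h)

end Point

theorem pairs (n : ℕ) (hn : n = 7 ∨ n = 8) :
    ∃ K : Subgroup (Perm (Fin n)), K ≤ alternatingGroup (Fin n) ∧ (∀ p : ℕ, p.Prime → p ∣ Nat.card K → p = 2 ∨ p = 3) ∧
      (n = 7 → ∀ A : Finset (Fin n), A.card = 3 → ¬ K ≤ setStab A) ∧
      (n = 8 → ∀ A : Finset (Fin n), A.card = 4 → ¬ K ≤ splitStab A) := by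
  rcases hn with rfl | rfl
  · obtain ⟨a, ha⟩ : ∃ a : Perm (Fin 7), a = swap 0 2 * swap 2 4 * (swap 1 3 * swap 3 5) := ⟨_, rfl⟩
    obtain ⟨b, hb⟩ : ∃ b : Perm (Fin 7), b = swap 0 1 * swap 2 3 := ⟨_, rfl⟩
    have hA : a ∈ alternatingGroup (Fin 7) ∧ b ∈ alternatingGroup (Fin 7) := by
      subst ha hb
      simp [mem_alternatingGroup, sign_swap']
    obtain ⟨q, hq⟩ : ∃ q : Fin 7 → Fin 4, q = fun x => ⟨x.val / 2, by omega⟩ := ⟨_, rfl⟩
    have hK : Subgroup.closure {a, b} ≤ fibreStab q := by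
      rw [Subgroup.closure_le, Set.insert_subset_iff, Set.singleton_subset_iff]
      subst ha hb hq
      exact ⟨⟨swap 0 1 * swap 1 2, by decide⟩, ⟨1, by decide⟩⟩
    refine ⟨Subgroup.closure {a, b}, ?_, fun p hp hd => fibreStab_prime (q := q) (by subst hq; decide) hp
      (hd.trans (Subgroup.card_dvd_of_le hK)), fun _ A hA3 hle => ?_, fun h => absurd h (by norm_num)⟩
    · rw [Subgroup.closure_le, Set.insert_subset_iff, Set.singleton_subset_iff]
      exact hA
    · have key : ∀ A : Finset (Fin 7), A.card = 3 →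
          ¬ ((∀ x, (swap 0 2 * swap 2 4 * (swap 1 3 * swap 3 5) : Perm (Fin 7)) x ∈ A ↔ x ∈ A) ∧
            ∀ x, (swap 0 1 * swap 2 3 : Perm (Fin 7)) x ∈ A ↔ x ∈ A) := by decide +kernel
      exact key A hA3 ⟨ha ▸ hle (Subgroup.subset_closure (by simp)), hb ▸ hle (Subgroup.subset_closure (by simp))⟩
  · obtain ⟨a, ha⟩ : ∃ a : Perm (Fin 8), a = swap 0 2 * swap 2 4 * (swap 1 3 * swap 3 5) := ⟨_, rfl⟩
    obtain ⟨b, hb⟩ : ∃ b : Perm (Fin 8), b = swap 0 1 * swap 2 3 := ⟨_, rfl⟩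
    have hA : a ∈ alternatingGroup (Fin 8) ∧ b ∈ alternatingGroup (Fin 8) := by
      subst ha hb
      simp [mem_alternatingGroup, sign_swap']
    obtain ⟨q, hq⟩ : ∃ q : Fin 8 → Fin 4, q = fun x => ⟨x.val / 2, by omega⟩ := ⟨_, rfl⟩
    have hK : Subgroup.closure {a, b} ≤ fibreStab q := by
      rw [Subgroup.closure_le, Set.insert_subset_iff, Set.singleton_subset_iff]
      subst ha hb hq
      exact ⟨⟨swap 0 1 * swap 1 2, by decide⟩, ⟨1, by decide⟩⟩
    refine ⟨Subgroup.closure {a, b}, ?_, fun p hp hd => fibreStab_prime (q := q) (by subst hq; decide) hp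
      (hd.trans (Subgroup.card_dvd_of_le hK)), fun h => absurd h (by norm_num), fun _ A hA4 hle => ?_⟩
    · rw [Subgroup.closure_le, Set.insert_subset_iff, Set.singleton_subset_iff]
      exact hA
    · have key : ∀ A : Finset (Fin 8), A.card = 4 →
          ¬ (((∀ x, (swap 0 2 * swap 2 4 * (swap 1 3 * swap 3 5) : Perm (Fin 8)) x ∈ A ↔ x ∈ A) ∨
              ∀ x, (swap 0 2 * swap 2 4 * (swap 1 3 * swap 3 5) : Perm (Fin 8)) x ∈ A ↔ x ∉ A) ∧
            ((∀ x, (swap 0 1 * swap 2 3 : Perm (Fin 8)) x ∈ A ↔ x ∈ A) ∨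
              ∀ x, (swap 0 1 * swap 2 3 : Perm (Fin 8)) x ∈ A ↔ x ∉ A)) := by decide +kernel
      exact key A hA4 ⟨ha ▸ hle (Subgroup.subset_closure (by simp)), hb ▸ hle (Subgroup.subset_closure (by simp))⟩

/-- In the nontrivial situations the full Sylow analogue fails. -/
theorem witness {π : Set ℕ} (n : ℕ) (hTwo : Two π n) (hAll : ¬ AllIn π n) {H : Subgroup (Perm (Fin n))}
    (hH : Cfsg.IsPiHallOf π H (alternatingGroup (Fin n))) :
    ∃ K : Subgroup (Perm (Fin n)), K ≤ alternatingGroup (Fin n) ∧ (∀ p : ℕ, p.Prime → p ∣ Nat.card K → p ∈ π) ∧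
      ∀ g ∈ alternatingGroup (Fin n), ¬ K ≤ H.map (MulAut.conj g).toMonoidHom := by
  rw [← Fintype.card_fin n] at hTwo hAll
  have h5 := five_le hTwo hAll
  rw [Fintype.card_fin] at h5
  rcases classify π _ (Fin n) rfl _ _ le_rfl hH hTwo hAll with ⟨hP, x, rfl⟩ | ⟨h7, hP, A, hA, rfl⟩ | ⟨h8, hP, A, hA, rfl⟩
  · rw [Fintype.card_fin] at hP
    obtain ⟨A, -, hA⟩ := Finset.exists_subset_card_eq (s := (Finset.univ : Finset (Fin n))) (n := 3) (by simp; omega)
    refine ⟨alternatingGroup (Fin n) ⊓ setStab A, inf_le_left, fun p hp hd => ?_, fun g hg hle => ?_⟩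
    · have := prime_setStab hp (A := A) (k := max 3 (n - 3)) (by omega) (by rw [Fintype.card_fin]; omega)
        (hd.trans (Subgroup.card_dvd_of_le inf_le_right))
      exact (hP.2 p hp (by omega)).2 (by omega)
    · rw [map_conj_setStab hg, Finset.image_singleton] at hle
      obtain ⟨t, ht, hmv⟩ := stab_moves (A := A) (by omega) (by rw [Fintype.card_fin]; omega) (g x)
      exact hmv (mem_point.1 (hle ht).2)
  · rw [Fintype.card_fin] at h7
    obtain ⟨K, hK, hKp, hK7, -⟩ := pairs n (.inl h7)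
    refine ⟨K, hK, fun p hp hd => ?_, fun g hg hle => ?_⟩
    · rcases hKp p hp hd with rfl | rfl <;> exact p23_mem hP (by norm_num) hp (by norm_num)
    · rw [map_conj_setStab hg] at hle
      exact hK7 h7 _ (by rw [Finset.card_image_of_injective _ g.injective, hA]) (hle.trans inf_le_right)
  · rw [Fintype.card_fin] at h8
    obtain ⟨K, hK, hKp, -, hK8⟩ := pairs n (.inr h8)
    refine ⟨K, hK, fun p hp hd => ?_, fun g hg hle => ?_⟩
    · rcases hKp p hp hd with rfl | rfl <;> exact p23_mem hP (by norm_num) hp (by norm_num)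
    · rw [map_conj_splitStab hg] at hle
      exact hK8 h8 _ (by rw [Finset.card_image_of_injective _ g.injective, hA]) (hle.trans inf_le_right)

end Cfsg.Agent.Lib.HallSym
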